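import Mathlib

/-!
# Pronormal subgroups and their fixed point sets: basics

For a pronormal subgroup `K` of `G` acting on `Ω` the translates of `F = Fix K` are the fixed sets of
the conjugates of `K`. Two of them containing a set `A` are translates of each other by an element
fixing `A` pointwise. The deficit of a set `Z` is `#Z - 2 #(Z ∩ F)`.
-/

set_option autoImplicit false

open scoped Pointwise
open Finset MulAction

namespace CfsgLib.ProFix

section Conj

variable {G : Type} [Group G]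

/-- The conjugate of a subgroup. -/
abbrev cj (g : G) (K : Subgroup G) : Subgroup G := K.map (MulAut.conj g).toMonoidHom

/-- Pronormality. -/
def IsPro (K : Subgroup G) : Prop := ∀ g : G, ∃ w ∈ K ⊔ cj g K, cj w K = cj g K

theorem mem_cj {g x : G} {K : Subgroup G} : x ∈ cj g K ↔ g⁻¹ * x * g ∈ K := by
  constructor
  · rintro ⟨k, hk, rfl⟩
    simpa [mul_assoc] using hk
  · exact fun h => ⟨_, h, by simp [mul_assoc]⟩

variable {α : Type} [MulAction G α]

/-- Every element of `K` fixes the point. -/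
def Fixes (K : Subgroup G) (a : α) : Prop := ∀ k ∈ K, k • a = a

open scoped Classical in
/-- The points of `s` fixed by `K`. -/
noncomputable def fixPart (K : Subgroup G) (s : Finset α) : Finset α := s.filter fun a => Fixes K a

theorem mem_fixPart {K : Subgroup G} {s : Finset α} {a : α} : a ∈ fixPart K s ↔ a ∈ s ∧ Fixes K a := by
  simp [fixPart]

theorem fixes_cj {g : G} {K : Subgroup G} {a : α} : Fixes (cj g K) a ↔ Fixes K (g⁻¹ • a) := by
  constructor
  · intro h k hk
    have := h (g * k * g⁻¹) (mem_cj.2 (by simpa [mul_assoc] using hk))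
    rw [mul_smul, mul_smul] at this
    exact eq_inv_smul_iff.2 this
  · intro h x hx
    have := h _ (mem_cj.1 hx)
    rw [mul_smul, mul_smul, smul_inv_smul] at this
    exact smul_left_cancel g⁻¹ this

end Conj

/-- The statement for orbits of fewer than `n` points. -/
def Small (n : ℕ) : Prop :=
  ∀ (G α : Type) [Group G] [MulAction G α] (K H : Subgroup G) (s : Finset α), IsPro K → K ≤ H →
    (∀ h ∈ H, ∀ a ∈ s, h • a ∈ s) → (∀ a ∈ s, ∀ b ∈ s, ∃ h ∈ H, h • a = b) →
    (∃ a ∈ s, ¬ Fixes K a) → s.card < n →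
    2 * (fixPart K s).card + 1 ≤ s.card ∧
      (2 * (fixPart K s).card + 1 = s.card →
        ∀ a ∈ s, ∀ b ∈ s, ∀ c ∈ s, b ≠ a → c ≠ a → ∃ h ∈ H, h • a = a ∧ h • b = c)

section Sets

variable {G Ω : Type} [Group G] [MulAction G Ω] [Fintype Ω] [DecidableEq Ω]

/-- The pointwise stabiliser. -/
abbrev pst (G : Type) {Ω : Type} [Group G] [MulAction G Ω] (A : Finset Ω) : Subgroup G :=
  fixingSubgroup G (A : Set Ω)

theorem mem_pst {A : Finset Ω} {g : G} : g ∈ pst G A ↔ ∀ a ∈ A, g • a = a := by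
  simp [pst, mem_fixingSubgroup_iff]

theorem pst_mono {A B : Finset Ω} (h : A ⊆ B) : pst G B ≤ pst G A := fun _ hg =>
  mem_pst.2 fun a ha => mem_pst.1 hg a (h ha)

theorem smul_eq_of_forall {g : G} {Z : Finset Ω} (h : ∀ z ∈ Z, g • z ∈ Z) : g • Z = Z :=
  eq_of_subset_of_card_le (fun w hw => by
    obtain ⟨z, hz, rfl⟩ := mem_smul_finset.1 hw
    exact h z hz) (by rw [card_smul_finset])

theorem smul_eq_self_of_fix {g : G} {A : Finset Ω} (h : ∀ a ∈ A, g • a = a) : g • A = A :=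
  smul_eq_of_forall fun a ha => by rw [h a ha]; exact ha

/-- Invariance of a set under a subgroup. -/
def InvU (H : Subgroup G) (Z : Finset Ω) : Prop := ∀ h ∈ H, ∀ z ∈ Z, h • z ∈ Z

theorem InvU.smul_eq {H : Subgroup G} {Z : Finset Ω} (hZ : InvU H Z) {h : G} (hh : h ∈ H) : h • Z = Z :=
  smul_eq_of_forall (hZ h hh)

open scoped Classical in
/-- The orbit of the pointwise stabiliser of `A`. -/
noncomputable def orb (G : Type) {Ω : Type} [Group G] [MulAction G Ω] [Fintype Ω]
    (A : Finset Ω) (z : Ω) : Finset Ω := univ.filter fun y => ∃ h ∈ pst G A, h • z = y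

theorem mem_orb {A : Finset Ω} {z y : Ω} : y ∈ orb G A z ↔ ∃ h ∈ pst G A, h • z = y := by simp [orb]

theorem self_mem_orb (A : Finset Ω) (z : Ω) : z ∈ orb G A z := mem_orb.2 ⟨1, one_mem _, one_smul G z⟩

theorem orb_inv (A : Finset Ω) (z : Ω) : InvU (pst G A) (orb G A z) := fun h hh y hy => by
  obtain ⟨k, hk, rfl⟩ := mem_orb.1 hy
  exact mem_orb.2 ⟨h * k, mul_mem hh hk, mul_smul h k z⟩

theorem orb_eq {A : Finset Ω} {z y : Ω} (h : y ∈ orb G A z) : orb G A y = orb G A z := by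
  obtain ⟨k, hk, rfl⟩ := mem_orb.1 h
  ext w
  simp only [mem_orb]
  exact ⟨fun ⟨l, hl, e⟩ => ⟨l * k, mul_mem hl hk, by rw [mul_smul, e]⟩,
    fun ⟨l, hl, e⟩ => ⟨l * k⁻¹, mul_mem hl (inv_mem hk), by rw [mul_smul, inv_smul_smul, e]⟩⟩

theorem orb_trans {A : Finset Ω} {z y w : Ω} (hy : y ∈ orb G A z) (hw : w ∈ orb G A z) :
    ∃ h ∈ pst G A, h • y = w := mem_orb.1 (by rw [orb_eq hy]; exact hw)

theorem orb_subset {A Z : Finset Ω} (hZ : InvU (pst G A) Z) {z : Ω} (hz : z ∈ Z) : orb G A z ⊆ Z :=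
  fun y hy => by
    obtain ⟨k, hk, rfl⟩ := mem_orb.1 hy
    exact hZ k hk z hz

theorem notMem_of_mem_orb {A : Finset Ω} {z y : Ω} (hz : z ∉ A) (hy : y ∈ orb G A z) : y ∉ A := fun h => by
  obtain ⟨k, hk, rfl⟩ := mem_orb.1 hy
  exact hz ((smul_left_cancel k ((mem_pst.1 hk _ h))) ▸ h)

theorem conj_mem_pst {g h : G} {A : Finset Ω} (hh : h ∈ pst G A) : g * h * g⁻¹ ∈ pst G (g • A) := by
  rw [mem_pst] at hh ⊢
  intro b hb
  obtain ⟨a, ha, rfl⟩ := mem_smul_finset.1 hb
  rw [mul_smul, mul_smul, inv_smul_smul, hh a ha]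

theorem smul_orb (g : G) (A : Finset Ω) (z : Ω) : g • orb G A z = orb G (g • A) (g • z) := by
  ext y
  rw [← inv_smul_mem_iff, mem_orb, mem_orb]
  constructor
  · rintro ⟨h, hh, e⟩
    refine ⟨g * h * g⁻¹, conj_mem_pst hh, ?_⟩
    rw [mul_smul, mul_smul, inv_smul_smul, e, smul_inv_smul]
  · rintro ⟨h, hh, e⟩
    have h' := conj_mem_pst (g := g⁻¹) hh
    rw [inv_smul_smul, inv_inv] at h'
    exact ⟨_, h', by rw [mul_smul, mul_smul, e]⟩

/-- The fixed set of `K`. -/
noncomputable def fixSet (K : Subgroup G) : Finset Ω := fixPart K univ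

theorem mem_fixSet {K : Subgroup G} {a : Ω} : a ∈ fixSet K ↔ Fixes K a := by simp [fixSet, mem_fixPart]

variable {K : Subgroup G}

local notation "F" => fixSet (Ω := Ω) K

theorem smul_fixed {k : G} (hk : k ∈ K) {a : Ω} (ha : a ∈ F) : k • a = a := mem_fixSet.1 ha k hk

theorem le_pst {A : Finset Ω} (hA : A ⊆ F) : K ≤ pst G A := fun _ hk =>
  mem_pst.2 fun _ ha => smul_fixed hk (hA ha)

theorem cj_le_pst {A : Finset Ω} {g : G} (hA : A ⊆ g • F) : cj g K ≤ pst G A := fun x hx =>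
  mem_pst.2 fun a ha => (fixes_cj.2 (mem_fixSet.1 (inv_smul_mem_iff.2 (hA ha)))) x hx

theorem smul_fixSet_of_cj {g h : G} (e : cj h K = cj g K) : h • F = g • F := by
  ext a
  rw [← inv_smul_mem_iff, ← inv_smul_mem_iff, mem_fixSet, mem_fixSet, ← fixes_cj, ← fixes_cj, e]

theorem conj_in (hpro : IsPro K) {A : Finset Ω} {g : G} (hA : A ⊆ F) (hg : A ⊆ g • F) :
    ∃ h ∈ pst G A, cj h K = cj g K ∧ h • F = g • F := by
  obtain ⟨w, hw, e⟩ := hpro g
  exact ⟨w, sup_le (le_pst hA) (cj_le_pst hg) hw, e, smul_fixSet_of_cj e⟩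

/-- A set that `K` stabilises and a conjugate fixes is fixed by `K`. -/
theorem subset_of_inv (hpro : IsPro K) {T : Finset Ω} {g : G} (hT : InvU K T) (hg : T ⊆ g • F) :
    T ⊆ F := by
  obtain ⟨w, hw, e⟩ := hpro g
  have hle : K ⊔ cj g K ≤ stabilizer G T := sup_le (fun k hk => mem_stabilizer_iff.2 (hT.smul_eq hk))
    fun x hx => mem_stabilizer_iff.2 (smul_eq_self_of_fix (mem_pst.1 (cj_le_pst hg hx)))
  intro t ht
  rw [mem_fixSet]
  intro k hk
  have hwt : w • t ∈ T := by
    rw [← mem_stabilizer_iff.1 (hle hw)]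
    exact smul_mem_smul_finset ht
  have h2 : (w * k * w⁻¹) • (w • t) = w • t :=
    mem_pst.1 (cj_le_pst hg (e ▸ (⟨k, hk, by simp⟩ : w * k * w⁻¹ ∈ cj w K))) _ hwt
  rw [mul_smul, mul_smul, inv_smul_smul] at h2
  exact smul_left_cancel w h2

theorem inter_card_eq (hpro : IsPro K) {A Z : Finset Ω} (hZ : InvU (pst G A) Z) {g : G} (hA : A ⊆ F)
    (hg : A ⊆ g • F) : (Z ∩ g • F).card = (Z ∩ F).card := by
  obtain ⟨h, hh, -, e⟩ := conj_in hpro hA hg
  conv_lhs => rw [← e, ← hZ.smul_eq hh, ← smul_finset_inter, card_smul_finset]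

/-- The deficit of a set. -/
noncomputable def defi (K : Subgroup G) (Z : Finset Ω) : ℤ := (Z.card : ℤ) - 2 * (Z ∩ fixSet K).card

theorem defi_smul (hpro : IsPro K) {A Z : Finset Ω} (hZ : InvU (pst G A) Z) (hA : A ⊆ F) {g : G}
    (hgA : g • A ⊆ F) : defi K (g • Z) = defi K Z := by
  have h1 : A ⊆ g⁻¹ • F := fun a ha => by
    rw [← inv_smul_mem_iff, inv_inv]
    exact hgA (smul_mem_smul_finset ha)
  have h2 : g • Z ∩ F = g • (Z ∩ g⁻¹ • F) := by rw [smul_finset_inter, smul_inv_smul]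
  rw [defi, defi, h2, card_smul_finset, card_smul_finset, inter_card_eq hpro hZ hA h1]

theorem defi_union {Y Z : Finset Ω} (h : Disjoint Y Z) : defi K (Y ∪ Z) = defi K Y + defi K Z := by
  rw [defi, defi, defi, union_inter_distrib_right, card_union_of_disjoint h,
    card_union_of_disjoint (h.mono inter_subset_left inter_subset_left)]
  push_cast
  ring

theorem defi_sdiff {Y Z : Finset Ω} (h : Y ⊆ Z) : defi K (Z \ Y) = defi K Z - defi K Y := by
  have := defi_union (K := K) (Y := Z \ Y) (Z := Y) sdiff_disjoint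
  rw [sdiff_union_of_subset h] at this
  omega

theorem defi_subset_fix {Z : Finset Ω} (h : Z ⊆ F) : defi K Z = -(Z.card : ℤ) := by
  rw [defi, inter_eq_left.2 h]; ring

theorem defi_erase {Z : Finset Ω} {z : Ω} (hz : z ∈ Z) (hzF : z ∈ F) :
    defi K (Z.erase z) = defi K Z + 1 := by
  rw [erase_eq, defi_sdiff (singleton_subset_iff.2 hz), defi_subset_fix (singleton_subset_iff.2 hzF),
    card_singleton]
  norm_num

theorem defi_biUnion {ι : Type} (s : Finset ι) (f : ι → Finset Ω)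
    (h : (s : Set ι).PairwiseDisjoint f) : defi K (s.biUnion f) = ∑ i ∈ s, defi K (f i) := by
  classical
  induction s using Finset.induction with
  | empty => simp [defi]
  | @insert a s ha ih =>
    rw [biUnion_insert, defi_union, sum_insert ha, ih (h.subset (by simp))]
    rw [disjoint_biUnion_right]
    intro b hb
    exact h (mem_insert_self a s) (mem_insert_of_mem hb) fun e => ha (e ▸ hb)

/-- The intersection of the translates of `F` containing `A`. -/
noncomputable def cl (K : Subgroup G) (A : Finset Ω) : Finset Ω := by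
  classical exact univ.filter fun z => ∀ g : G, A ⊆ g • fixSet K → z ∈ g • fixSet K

theorem mem_cl {A : Finset Ω} {z : Ω} :
    z ∈ cl K A ↔ ∀ g : G, A ⊆ g • F → z ∈ g • F := by simp [cl]

theorem subset_cl (A : Finset Ω) : A ⊆ cl K A := fun _ hz => mem_cl.2 fun _ hg => hg hz

theorem cl_subset {A : Finset Ω} (h : A ⊆ F) : cl K A ⊆ F := fun z hz => by
  simpa using mem_cl.1 hz 1 (by simpa using h)

theorem cl_subset_smul {A : Finset Ω} {g : G} (h : A ⊆ g • F) : cl K A ⊆ g • F := fun _ hz =>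
  mem_cl.1 hz g h

theorem cl_mono {A B : Finset Ω} (h : B ⊆ cl K A) : cl K B ⊆ cl K A := fun _ hz =>
  mem_cl.2 fun g hg => mem_cl.1 hz g fun _ hw => mem_cl.1 (h hw) g hg

theorem smul_cl (g : G) (A : Finset Ω) : g • cl K A = cl K (g • A) := by
  ext z
  rw [← inv_smul_mem_iff, mem_cl, mem_cl]
  constructor
  · intro hz h hh
    have := hz (g⁻¹ * h) (by rw [mul_smul]; exact smul_finset_subset_iff.1 hh)
    rwa [mul_smul, smul_mem_smul_finset_iff] at this
  · intro hz h hh
    have := hz (g * h) (by rw [mul_smul]; exact smul_finset_subset_smul_finset_iff.2 hh)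
    rwa [mul_smul, ← inv_smul_mem_iff] at this

theorem cl_inv (A : Finset Ω) : InvU (pst G A) (cl K A) := fun h hh z hz => by
  have := smul_mem_smul_finset (a := h) hz
  rwa [smul_cl, smul_eq_self_of_fix (mem_pst.1 hh)] at this

theorem orb_disjoint_cl {A : Finset Ω} {z : Ω} (hz : z ∉ cl K A) : Disjoint (orb G A z) (cl K A) :=
  Finset.disjoint_left.2 fun y hy hc => hz (by
    obtain ⟨k, hk, rfl⟩ := mem_orb.1 hy
    have := (cl_inv (K := K) A) k⁻¹ (inv_mem hk) _ hc
    rwa [inv_smul_smul] at this)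

/-- An orbit of a point stabiliser outside the closure has positive deficit. -/
theorem defi_orb_pos (hsm : Small (Fintype.card Ω)) (hpro : IsPro K) {A : Finset Ω} (hA : A ⊆ F)
    (hne : A.Nonempty) {z : Ω} (hz : z ∉ cl K A) :
    1 ≤ defi K (orb G A z) ∧ (defi K (orb G A z) = 1 → ∀ a ∈ orb G A z, ∀ b ∈ orb G A z,
      ∀ c ∈ orb G A z, b ≠ a → c ≠ a → ∃ h ∈ pst G A, h • a = a ∧ h • b = c) := by
  set Z := orb G A z with hZ
  have hmov : ∃ a ∈ Z, ¬ Fixes K a := by
    by_contra hcon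
    push Not at hcon
    refine hz (mem_cl.2 fun g hg => ?_)
    obtain ⟨h, hh, -, e⟩ := conj_in hpro hA hg
    have : Z ⊆ F := fun a ha => mem_fixSet.2 (hcon a ha)
    rw [← e, ← inv_smul_mem_iff]
    exact this (mem_orb.2 ⟨h⁻¹, inv_mem hh, rfl⟩)
  have hlt : Z.card < Fintype.card Ω := by
    obtain ⟨a, ha⟩ := hne
    refine card_lt_univ_of_notMem (x := a) fun h => ?_
    exact notMem_of_mem_orb (fun h' => hz (subset_cl _ h')) h ha
  obtain ⟨h1, h2⟩ := hsm G Ω K (pst G A) Z hpro (le_pst hA) (orb_inv A z)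
    (fun a ha b hb => orb_trans ha hb) hmov hlt
  have e : fixPart K Z = Z ∩ F := by ext a; simp [mem_fixPart, mem_fixSet]
  rw [e] at h1 h2
  refine ⟨by rw [defi]; omega, fun hd => h2 ?_⟩
  rw [defi] at hd
  omega

/-- The orbits inside an invariant set. -/
noncomputable def orbs (G : Type) {Ω : Type} [Group G] [MulAction G Ω] [Fintype Ω] [DecidableEq Ω]
    (A U : Finset Ω) : Finset (Finset Ω) := U.image (orb G A)

theorem defi_eq_sum {A U : Finset Ω} (hU : InvU (pst G A) U) :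
    defi K U = ∑ O ∈ orbs G A U, defi K O := by
  have e : U = (orbs G A U).biUnion id := by
    ext z
    simp only [orbs, mem_biUnion, mem_image, id]
    exact ⟨fun hz => ⟨_, ⟨z, hz, rfl⟩, self_mem_orb A z⟩,
      fun ⟨_, ⟨y, hy, rfl⟩, hz⟩ => orb_subset hU hy hz⟩
  conv_lhs => rw [e]
  rw [defi_biUnion]
  · rfl
  intro O hO P hP hne
  simp only [orbs, coe_image, Set.mem_image] at hO hP
  obtain ⟨a, -, rfl⟩ := hO
  obtain ⟨b, -, rfl⟩ := hP
  exact Finset.disjoint_left.2 fun w hwa hwb => hne ((orb_eq hwa).symm.trans (orb_eq hwb))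

/-- The number of orbits in an invariant set outside the closure is at most its deficit. -/
theorem card_le_defi (hsm : Small (Fintype.card Ω)) (hpro : IsPro K) {A : Finset Ω} (hA : A ⊆ F)
    (hne : A.Nonempty) {U : Finset Ω} (hU : InvU (pst G A) U) (hd : Disjoint U (cl K A)) :
    ((orbs G A U).card : ℤ) ≤ defi K U := by
  rw [defi_eq_sum hU, card_eq_sum_ones, Nat.cast_sum]
  refine sum_le_sum fun O hO => ?_
  obtain ⟨z, hz, rfl⟩ := mem_image.1 hO
  exact_mod_cast (defi_orb_pos hsm hpro hA hne (Finset.disjoint_left.1 hd hz)).1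

theorem defi_nonneg (hsm : Small (Fintype.card Ω)) (hpro : IsPro K) {A : Finset Ω} (hA : A ⊆ F)
    (hne : A.Nonempty) {U : Finset Ω} (hU : InvU (pst G A) U) (hd : Disjoint U (cl K A)) :
    0 ≤ defi K U := le_trans (by positivity) (card_le_defi hsm hpro hA hne hU hd)

theorem defi_pos (hsm : Small (Fintype.card Ω)) (hpro : IsPro K) {A : Finset Ω} (hA : A ⊆ F)
    (hne : A.Nonempty) {U : Finset Ω} (hU : InvU (pst G A) U) (hd : Disjoint U (cl K A))
    (hUne : U.Nonempty) : 1 ≤ defi K U := by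
  refine le_trans ?_ (card_le_defi hsm hpro hA hne hU hd)
  exact_mod_cast card_pos.2 (hUne.image _)

theorem defi_mono (hsm : Small (Fintype.card Ω)) (hpro : IsPro K) {A : Finset Ω} (hA : A ⊆ F)
    (hne : A.Nonempty) {U V : Finset Ω} (hV : InvU (pst G A) V) (hU : InvU (pst G A) U)
    (hVU : V ⊆ U) (hd : Disjoint U (cl K A)) : defi K V ≤ defi K U := by
  have h := defi_nonneg hsm hpro hA hne (U := U \ V) (fun h hh z hz => by
    rw [mem_sdiff] at hz ⊢
    refine ⟨hU h hh z hz.1, fun hzV => hz.2 ?_⟩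
    simpa using hV h⁻¹ (inv_mem hh) _ hzV) (hd.mono_left sdiff_subset)
  rw [defi_sdiff hVU] at h
  omega

theorem compl_inv {A U : Finset Ω} (hU : InvU (pst G A) U) : InvU (pst G A) Uᶜ := fun h hh z hz => by
  rw [mem_compl] at hz ⊢
  exact fun hzU => hz (by simpa using hU h⁻¹ (inv_mem hh) _ hzU)

theorem defi_compl_cl {A : Finset Ω} (hA : A ⊆ F) :
    defi K (cl K A)ᶜ = (Fintype.card Ω : ℤ) - 2 * (fixSet (Ω := Ω) K).card + (cl K A).card := by
  rw [compl_eq_univ_sdiff, defi_sdiff (subset_univ _), defi_subset_fix (cl_subset hA), defi, univ_inter,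
    card_univ]
  ring

/-- Classes: a bundle of equivalent points has deficit a multiple of the class size. -/
theorem defi_classes (hsm : Small (Fintype.card Ω)) (hpro : IsPro K) {A : Finset Ω} (hA : A ⊆ F)
    (C : Ω → Finset Ω) (hCs : ∀ h ∈ pst G A, ∀ w, h • C w = C (h • w)) {z : Ω}
    (hself : ∀ w ∈ orb G A z, w ∈ C w) (hnotA : ∀ w ∈ orb G A z, Disjoint (C w) (cl K A))
    (heq : ∀ w ∈ orb G A z, ∀ v ∈ C w, C v = C w)
    (hcov : ∀ w ∈ orb G A z, ∃ g : G, C w ⊆ g • F) (hlt : (orb G A z).card < Fintype.card Ω ∨ 2 ≤ (C z).card) :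
    ∃ q : ℤ, 1 ≤ q ∧ defi K ((orb G A z).biUnion C) = (C z).card * q ∧
      (q = 1 → ∀ a ∈ orb G A z, ∀ b ∈ orb G A z, ∀ c ∈ orb G A z, C b ≠ C a → C c ≠ C a →
        ∃ h ∈ pst G A, h • C a = C a ∧ h • C b = C c) := by
  classical
  set Z := orb G A z with hZ
  set Q : Finset (Finset Ω) := Z.image C with hQ
  have hinvQ : ∀ h ∈ pst G A, ∀ X ∈ Q, h • X ∈ Q := by
    intro h hh X hX
    obtain ⟨w, hw, rfl⟩ := mem_image.1 hX
    rw [hCs h hh]
    exact mem_image_of_mem _ (orb_inv A z h hh w hw)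
  have htr : ∀ X ∈ Q, ∀ Y ∈ Q, ∃ h ∈ pst G A, h • X = Y := by
    intro X hX Y hY
    obtain ⟨w, hw, rfl⟩ := mem_image.1 hX
    obtain ⟨v, hv, rfl⟩ := mem_image.1 hY
    obtain ⟨h, hh, e⟩ := orb_trans hw hv
    exact ⟨h, hh, by rw [hCs h hh, e]⟩
  have hfix : ∀ w ∈ Z, Fixes K (C w) ↔ C w ⊆ F := by
    refine fun w hw => ⟨fun h => ?_, fun h k hk => smul_eq_self_of_fix fun a ha => smul_fixed hk (h ha)⟩
    obtain ⟨g, hg⟩ := hcov w hw
    exact subset_of_inv hpro (fun k hk v hv => by rw [← h k hk]; exact smul_mem_smul_finset hv) hg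
  have hmeet : ∀ w ∈ Z, ∀ v ∈ C w, v ∈ F → Fixes K (C w) := by
    intro w hw v hv hvF k hk
    rw [← heq w hw v hv, hCs k (le_pst hA hk), smul_fixed hk hvF]
  have hmov : ∃ X ∈ Q, ¬ Fixes K X := by
    by_contra hcon
    push Not at hcon
    refine Finset.disjoint_left.1 (hnotA z (self_mem_orb A z)) (hself z (self_mem_orb A z)) ?_
    refine mem_cl.2 fun g hg => ?_
    obtain ⟨h, hh, -, e⟩ := conj_in hpro hA hg
    have hw : h⁻¹ • z ∈ Z := mem_orb.2 ⟨h⁻¹, inv_mem hh, rfl⟩
    rw [← e, ← inv_smul_mem_iff]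
    exact (hfix _ hw).1 (hcon _ (mem_image_of_mem _ hw)) (hself _ hw)
  have hcard : ∀ X ∈ Q, X.card = (C z).card := fun X hX => by
    obtain ⟨h, hh, e⟩ := htr (C z) (mem_image_of_mem _ (self_mem_orb A z)) X hX
    rw [← e, card_smul_finset]
  have hU : Z.biUnion C = Q.biUnion id := by simp [hQ, image_biUnion]
  have hdisj : (Q : Set (Finset Ω)).PairwiseDisjoint id := by
    intro X hX Y hY hne
    obtain ⟨w, hw, rfl⟩ := mem_image.1 hX
    obtain ⟨v, hv, rfl⟩ := mem_image.1 hY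
    exact Finset.disjoint_left.2 fun x hxw hxv => hne ((heq w hw x hxw).symm.trans (heq v hv x hxv))
  have hQlt : Q.card < Fintype.card Ω := by
    rcases hlt with h | h
    · exact lt_of_le_of_lt card_image_le h
    · have h1 : (Q.biUnion id).card = ∑ _X ∈ Q, (C z).card := by
        rw [card_biUnion hdisj]; exact sum_congr rfl hcard
      rw [sum_const, smul_eq_mul] at h1
      have h2 := card_le_univ (Q.biUnion id)
      have h3 : 0 < Q.card := card_pos.2 ⟨_, mem_image_of_mem _ (self_mem_orb A z)⟩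
      nlinarith
  obtain ⟨h1, h2⟩ := hsm G (Finset Ω) K (pst G A) Q hpro (le_pst hA) hinvQ htr hmov hQlt
  have hd : defi K (Z.biUnion C) =
      (C z).card * ((Q.card : ℤ) - 2 * (fixPart K Q).card) := by
    rw [hU, defi_biUnion _ _ hdisj]
    have hv : ∀ X ∈ Q, defi K (id X) =
        ((C z).card : ℤ) - 2 * (if Fixes K X then ((C z).card : ℤ) else 0) := by
      intro X hX
      obtain ⟨w, hw, rfl⟩ := mem_image.1 hX
      by_cases hx : Fixes K (C w)
      · rw [if_pos hx, id, defi_subset_fix ((hfix w hw).1 hx), hcard _ hX]; ring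
      · rw [if_neg hx, id, defi, hcard _ hX]
        have : C w ∩ F = ∅ := by
          ext v
          simp only [mem_inter, notMem_empty, iff_false, not_and]
          exact fun hv hvF => hx (hmeet w hw v hv hvF)
        simp [this]
    rw [sum_congr rfl hv, sum_sub_distrib, ← mul_sum, ← sum_filter, sum_const, sum_const, nsmul_eq_mul,
      nsmul_eq_mul]
    simp only [fixPart]
    push_cast
    ring
  refine ⟨(Q.card : ℤ) - 2 * (fixPart K Q).card, by omega, hd, fun hq a ha b hb c hc hba hca => ?_⟩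
  exact h2 (by omega) _ (mem_image_of_mem _ ha) _ (mem_image_of_mem _ hb) _ (mem_image_of_mem _ hc) hba hca

end Sets

end CfsgLib.ProFix
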