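import Cfsg.Agent.Lib.Perm.ProFix.Cover

/-!
# The first level with a nontrivial closure
-/

set_option autoImplicit false

open scoped Pointwise
open Finset MulAction

namespace CfsgLib.ProFix

variable {G Ω : Type} [Group G] [Finite G] [MulAction G Ω] [Fintype Ω] [DecidableEq Ω] {K : Subgroup G}

/-- The first nonclosed level `k`, between three and six. -/
structure Top (K : Subgroup G) (k : ℕ) : Prop where
  cx : Cx (Ω := Ω) K
  hcl : cx.ClosedBelow k
  hk3 : 3 ≤ k
  hk6 : k ≤ 6
  hkf : k < (fixSet (Ω := Ω) K).card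
  hB : ∃ B : Finset Ω, B ⊆ fixSet K ∧ B.card = k ∧ cl K B ≠ B

namespace Top

variable {k : ℕ} (X : Top (Ω := Ω) K k)
include X

theorem jt : JT G Ω (k - 1) :=
  X.cx.jt_of_closed X.hcl X.hkf.le _ (by have := X.hk6; omega) (by have := X.hk3; omega)

theorem lvl : Lvl (Ω := Ω) K (k - 1) :=
  ⟨X.cx.hsm, X.cx.hpro, X.cx.hn, X.jt, by have := X.hk3; omega,
    fun A hA hAc => X.hcl A hA (by have := X.hk3; omega)⟩

theorem to_fix {A : Finset Ω} (hA : A.card = k - 1) :
    ∃ g : G, g • A ⊆ fixSet (Ω := Ω) K ∧ (g • A).card = k - 1 := by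
  obtain ⟨A₀, hA₀, hA₀c⟩ := exists_subset_card_eq (s := fixSet (Ω := Ω) K) (n := k - 1)
    (by have := X.hkf; omega)
  obtain ⟨g, hg⟩ := X.jt.map_set (hA.le) (hA.trans hA₀c.symm)
  exact ⟨g, hg ▸ hA₀, by rw [card_smul_finset, hA]⟩

theorem sym_fix {A : Finset Ω} (hA : A ⊆ fixSet K) (hAc : A.card = k - 1) {u z : Ω} (hu : u ∉ A)
    (hz : z ∉ A) (hzu : z ∈ cl K (insert u A)) : cl K (insert z A) = cl K (insert u A) := by
  classical
  have hsub : cl K (insert z A) ⊆ cl K (insert u A) :=
    cl_mono (insert_subset hzu ((subset_insert u A).trans (subset_cl _)))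
  by_contra hne
  have hclA := X.lvl.closed A hA hAc
  have hAne : A.Nonempty := card_pos.1 (by have := X.hk3; omega)
  have hAinv : InvU (pst G A) A := fun h hh w hw => by rw [mem_pst.1 hh w hw]; exact hw
  set Ou := orb G A u with hOu
  set Oz := orb G A z with hOz
  set s := Ou.card with hs
  set d := defi K Ou with hd
  have hins : ∀ h ∈ pst G A, ∀ w : Ω, h • insert w A = insert (h • w) A := fun h hh w => by
    rw [smul_finset_insert, smul_eq_self_of_fix (mem_pst.1 hh)]
  have horbne : z ∉ Ou := fun h => by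
    obtain ⟨l, hl, e⟩ := mem_orb.1 h
    exact hne (eq_of_subset_of_card_le hsub (by rw [← e, ← hins l hl, ← smul_cl, card_smul_finset]))
  obtain ⟨hd1, -⟩ := defi_orb_pos X.cx.hsm X.cx.hpro hA hAne (z := u) (by rw [hclA]; exact hu)
  obtain ⟨hdz1, -⟩ := defi_orb_pos X.cx.hsm X.cx.hpro hA hAne (z := z) (by rw [hclA]; exact hz)
  replace hd1 : 1 ≤ d := hd1
  replace hdz1 : 1 ≤ defi K Oz := hdz1
  have hdle : d + defi K Oz ≤ (k : ℤ) - 1 := by
    have h1 := defi_mono X.cx.hsm X.cx.hpro hA hAne (U := Aᶜ) (V := Ou ∪ Oz)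
      (fun h hh w hw => by
        rcases mem_union.1 hw with hw | hw
        · exact mem_union_left _ (orb_inv A u h hh w hw)
        · exact mem_union_right _ (orb_inv A z h hh w hw))
      (compl_inv hAinv) (union_subset (fun w hw => mem_compl.2 (notMem_of_mem_orb hu hw))
        fun w hw => mem_compl.2 (notMem_of_mem_orb hz hw)) (by rw [hclA]; exact disjoint_compl_left)
    rw [defi_union (Finset.disjoint_left.2 fun w hw hw' => horbne (by
        rw [hOu, ← orb_eq hw, orb_eq hw']; exact self_mem_orb A z)), X.lvl.defi_compl hA hAc] at h1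
    have := X.hk3
    omega
  -- double counting
  set R : Ω → Ω → Prop := fun v w => w ∈ cl K (insert v A) with hR
  set l := (Oz.filter fun w => R u w).card with hl
  have hl0 : 0 < l := card_pos.2 ⟨z, mem_filter.2 ⟨self_mem_orb A z, hzu⟩⟩
  have hRinv : ∀ h ∈ pst G A, ∀ v w, R v w → R (h • v) (h • w) := fun h hh v w hvw => by
    simp only [hR]
    rw [← hins h hh, ← smul_cl]
    exact smul_mem_smul_finset hvw
  have hLc : ∀ v ∈ Ou, (Oz.filter fun w => R v w).card = l := by
    intro v hv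
    obtain ⟨h, hh, rfl⟩ := mem_orb.1 hv
    rw [hl, ← card_smul_finset h (Oz.filter fun w => R u w)]
    congr 1
    ext w
    rw [← inv_smul_mem_iff, mem_filter, mem_filter]
    constructor
    · rintro ⟨h1, h2⟩
      refine ⟨by simpa using orb_inv A z h⁻¹ (inv_mem hh) w h1, ?_⟩
      have := hRinv h⁻¹ (inv_mem hh) _ _ h2
      rwa [inv_smul_smul] at this
    · rintro ⟨h1, h2⟩
      refine ⟨by simpa using orb_inv A z h hh _ h1, ?_⟩
      have := hRinv h hh _ _ h2
      rwa [smul_inv_smul] at this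
  set k' := (Ou.filter fun v => R v z).card with hk'
  have hBc : ∀ w ∈ Oz, (Ou.filter fun v => R v w).card = k' := by
    intro w hw
    obtain ⟨h, hh, rfl⟩ := mem_orb.1 hw
    rw [hk', ← card_smul_finset h (Ou.filter fun v => R v z)]
    congr 1
    ext v
    rw [← inv_smul_mem_iff, mem_filter, mem_filter]
    constructor
    · rintro ⟨h1, h2⟩
      refine ⟨by simpa using orb_inv A u h⁻¹ (inv_mem hh) v h1, ?_⟩
      have := hRinv h⁻¹ (inv_mem hh) _ _ h2
      rwa [inv_smul_smul] at this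
    · rintro ⟨h1, h2⟩
      refine ⟨by simpa using orb_inv A u h hh _ h1, ?_⟩
      have := hRinv h hh _ _ h2
      rwa [smul_inv_smul] at this
  have hdc1 : Oz.card * k' = s * l := by
    have h := sum_card_bipartiteAbove_eq_sum_card_bipartiteBelow (s := Ou) (t := Oz) (fun v w => R v w)
    simp only [bipartiteAbove, bipartiteBelow] at h
    rw [sum_congr rfl hLc, sum_congr rfl hBc, sum_const, sum_const, smul_eq_mul, smul_eq_mul] at h
    exact h.symm
  -- the fixed part
  have hdc2 : ((Oz ∩ fixSet K).card : ℤ) * k' ≥ 2 * ((Ou ∩ fixSet K).card * l : ℕ) := by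
    have h := sum_card_bipartiteAbove_eq_sum_card_bipartiteBelow (s := Ou ∩ fixSet K) (t := Oz)
      (fun v w => R v w)
    simp only [bipartiteAbove, bipartiteBelow] at h
    rw [sum_congr rfl (fun v hv => hLc v (mem_inter.1 hv).1), sum_const, smul_eq_mul] at h
    rw [h, ← sum_filter_add_sum_filter_not Oz (fun w => w ∈ fixSet K),
      sum_eq_zero (s := Oz.filter fun w => ¬ w ∈ fixSet K) (fun w hw => by
        rw [card_eq_zero]
        ext v
        simp only [mem_filter, notMem_empty, iff_false, not_and]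
        intro hv hvw
        exact (mem_filter.1 hw).2 (cl_subset (insert_subset (mem_inter.1 hv).2 hA) hvw)),
      add_zero, ← filter_mem_eq_inter (s := Oz)]
    push_cast
    rw [mul_sum, ← nsmul_eq_mul, ← sum_const]
    refine sum_le_sum fun w hw => ?_
    obtain ⟨hwO, hwF⟩ := mem_filter.1 hw
    have hwA : w ∉ A := notMem_of_mem_orb hz hwO
    have h0 := defi_nonneg X.cx.hsm X.cx.hpro (insert_subset hwF hA) (insert_nonempty w A)
      (U := Ou.filter fun v => R v w)
      (fun h hh v hv => by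
        obtain ⟨hv1, hv2⟩ := mem_filter.1 hv
        have hhA : h ∈ pst G A := pst_mono (subset_insert w A) hh
        refine mem_filter.2 ⟨orb_inv A u h hhA v hv1, ?_⟩
        have := hRinv h hhA _ _ hv2
        rwa [mem_pst.1 hh w (mem_insert_self w A)] at this)
      (Finset.disjoint_left.2 fun v hv hvcl => by
        obtain ⟨hv1, hv2⟩ := mem_filter.1 hv
        obtain ⟨h, hh, e⟩ := orb_trans hwO (self_mem_orb A z)
        refine hne (eq_of_subset_of_card_le hsub ?_)
        have h1 : cl K (insert v A) ⊆ cl K (insert w A) :=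
          cl_mono (insert_subset hvcl ((subset_insert w A).trans (subset_cl _)))
        obtain ⟨h', hh', e'⟩ := orb_trans hv1 (self_mem_orb A u)
        have h2 : (cl K (insert v A)).card = (cl K (insert u A)).card := by
          rw [← card_smul_finset h', smul_cl, hins h' hh', e']
        have h3 : (cl K (insert w A)).card = (cl K (insert z A)).card := by
          rw [← card_smul_finset h, smul_cl, hins h hh, e]
        rw [← h2, ← h3]
        exact card_le_card h1)
    rw [defi] at h0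
    have e2 : (Ou.filter fun v => R v w) ∩ fixSet K = (Ou ∩ fixSet K).filter fun v => R v w := by
      ext v; simp only [mem_inter, mem_filter]; tauto
    rw [e2, hBc w hwO] at h0
    omega
  -- `u` has a small orbit, so `K` fixes it
  have hx : (Ou ∩ fixSet K).Nonempty := by
    obtain ⟨g, hg⟩ := X.cx.covered X.hcl (insert u A)
      (by rw [card_insert_of_notMem hu, hAc]; have := X.hk3; omega)
    exact X.cx.inter_nonempty hA hg
  have hds : (s : ℤ) < 2 * d := by
    have e1 : ((Oz.card : ℤ)) * k' = s * l := by exact_mod_cast hdc1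
    rw [hd, defi, ← hs]
    have h2 : 2 * ((Oz ∩ fixSet K).card : ℤ) < Oz.card := by rw [defi] at hdz1; omega
    have hk0 : (0 : ℤ) < k' := by
      exact_mod_cast (card_pos.2 ⟨u, mem_filter.2 ⟨self_mem_orb A u, hzu⟩⟩ : 0 < k')
    push_cast at hdc2
    have hl0' : (0 : ℤ) < l := by exact_mod_cast hl0
    nlinarith [mul_lt_mul_of_pos_right h2 hk0]
  have hxp := card_pos.2 hx
  have hsmall : (Ou \ fixSet K).card ≤ k := by
    have h1 := card_sdiff_add_card_inter Ou (fixSet K)
    rw [hd, defi, ← hs] at hds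
    rw [hd, defi, ← hs] at hdle
    have := X.hk6
    omega
  have hfix := X.cx.small_inv X.hcl (T := Ou \ fixSet K) (fun c hc w hw => by
    obtain ⟨h1, h2⟩ := mem_sdiff.1 hw
    refine mem_sdiff.2 ⟨orb_inv A u c (le_pst hA hc) w h1, fun h => h2 ?_⟩
    have := smul_fixed (inv_mem hc) h
    rw [inv_smul_smul] at this
    exact this ▸ h) hsmall
  have hOF : Ou ⊆ fixSet K := fun w hw => by
    by_contra h
    exact h (hfix (mem_sdiff.2 ⟨hw, h⟩))
  rw [hd, defi_subset_fix hOF] at hd1
  omega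

theorem sym {A : Finset Ω} (hAc : A.card = k - 1) {u z : Ω} (hu : u ∉ A) (hz : z ∉ A)
    (hzu : z ∈ cl K (insert u A)) : cl K (insert z A) = cl K (insert u A) := by
  obtain ⟨g, hg, hgc⟩ := X.to_fix hAc
  have := X.sym_fix hg hgc (u := g • u) (z := g • z) (by rwa [smul_mem_smul_finset_iff])
    (by rwa [smul_mem_smul_finset_iff])
    (by rw [← smul_finset_insert, ← smul_cl]; exact smul_mem_smul_finset hzu)
  rw [← smul_finset_insert, ← smul_finset_insert, ← smul_cl, ← smul_cl] at this
  exact MulAction.injective g this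

/-- Exchanging one point of a `k`-set for a point of its closure. -/
theorem exch {T : Finset Ω} (hT : T.card = k) {x y : Ω} (hx : x ∈ T) (hy : y ∈ cl K T) (hyT : y ∉ T) :
    cl K (insert y (T.erase x)) = cl K T := by
  have h := X.sym (A := T.erase x) (u := x) (z := y) (by rw [card_erase_of_mem hx, hT])
    (notMem_erase x T) (fun h => hyT (mem_of_mem_erase h)) (by rwa [insert_erase hx])
  rwa [insert_erase hx] at h

/-- The class of a point. -/
noncomputable def cls (_X : Top (Ω := Ω) K k) (A : Finset Ω) (z : Ω) : Finset Ω := cl K (insert z A) \ A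

/-- Classes inside an orbit's bundle. -/
theorem bundle {A : Finset Ω} (hA : A ⊆ fixSet K) (hAc : A.card = k - 1) {z : Ω} (hz : z ∉ A) :
    ∃ q : ℤ, 1 ≤ q ∧ defi K ((orb G A z).biUnion (X.cls A)) = (X.cls A z).card * q := by
  have hclA := X.lvl.closed A hA hAc
  have hw : ∀ w ∈ orb G A z, w ∉ A := fun w hw => notMem_of_mem_orb hz hw
  obtain ⟨q, h1, h2, -⟩ := defi_classes X.cx.hsm X.cx.hpro hA (X.cls A)
    (fun h hh w => by
      simp only [cls, smul_finset_sdiff, smul_cl, smul_finset_insert, smul_eq_self_of_fix (mem_pst.1 hh)])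
    (z := z) (fun w hw' => mem_sdiff.2 ⟨subset_cl _ (mem_insert_self w A), hw w hw'⟩)
    (fun w _ => by rw [hclA]; exact sdiff_disjoint)
    (fun w hw' v hv => by
      obtain ⟨h1, h2⟩ := mem_sdiff.1 hv
      simp only [cls]
      rw [X.sym hAc (hw w hw') h2 h1])
    (fun w hw' => by
      obtain ⟨g, hg⟩ := X.cx.covered X.hcl (insert w A)
        (by rw [card_insert_of_notMem (hw w hw'), hAc]; have := X.hk3; omega)
      exact ⟨g, sdiff_subset.trans (cl_subset_smul hg)⟩)
    (Or.inl (by
      obtain ⟨a, ha⟩ := card_pos.1 (show 0 < A.card by have := X.hk3; omega)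
      exact card_lt_univ_of_notMem (x := a) fun h => hw a h ha))
  exact ⟨q, h1, h2⟩

/-- The bundle of a point is invariant and outside `A`. -/
theorem bundle_inv {A : Finset Ω} {z : Ω} :
    InvU (pst G A) ((orb G A z).biUnion (X.cls A)) ∧ (orb G A z).biUnion (X.cls A) ⊆ Aᶜ := by
  refine ⟨fun h hh w hw => ?_, biUnion_subset.2 fun w _ v hv => mem_compl.2 (mem_sdiff.1 hv).2⟩
  obtain ⟨v, hv, hwv⟩ := mem_biUnion.1 hw
  refine mem_biUnion.2 ⟨h • v, orb_inv A z h hh v hv, ?_⟩
  have := smul_mem_smul_finset (a := h) hwv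
  simpa only [cls, smul_finset_sdiff, smul_cl, smul_finset_insert, smul_eq_self_of_fix (mem_pst.1 hh)] using this

/-- Every set of `k` points has a nontrivial closure. -/
theorem all_open_fix {A : Finset Ω} (hA : A ⊆ fixSet K) (hAc : A.card = k - 1) {z : Ω} (hz : z ∉ A) :
    cl K (insert z A) ≠ insert z A := by
  intro he
  have hk3 := X.hk3
  have hclA := X.lvl.closed A hA hAc
  have hAne : A.Nonempty := card_pos.1 (by omega)
  -- a point with a nontrivial closure
  obtain ⟨B, hBF, hBk, hBcl⟩ := X.hB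
  obtain ⟨v, hv⟩ : B.Nonempty := card_pos.1 (by omega)
  obtain ⟨g, hg⟩ := X.jt.map_set (A := B.erase v) (A' := A) (by rw [card_erase_of_mem hv]; omega)
    (by rw [card_erase_of_mem hv]; omega)
  set w := g • v with hw'
  have hw : w ∉ A := by rw [← hg, hw', smul_mem_smul_finset_iff]; exact notMem_erase v B
  have hwcl : cl K (insert w A) ≠ insert w A := by
    rw [hw', ← hg, ← smul_finset_insert, insert_erase hv, ← smul_cl]
    exact fun e => hBcl (MulAction.injective g e)
  obtain ⟨g', hg'⟩ := X.cx.covered X.hcl (insert z A) (by rw [card_insert_of_notMem hz, hAc]; omega)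
  obtain ⟨b, hb⟩ := X.cx.inter_nonempty hA hg'
  obtain ⟨hbO, hbF⟩ := mem_inter.1 hb
  obtain ⟨h, hh, e⟩ := mem_orb.1 hbO
  have hbe : cl K (insert b A) = insert b A := by
    rw [← e, ← smul_eq_self_of_fix (mem_pst.1 hh), ← smul_finset_insert, ← smul_cl, he]
  set U := (orb G A w).biUnion (X.cls A) with hU
  have hdis : Disjoint (orb G A z) U := by
    refine Finset.disjoint_left.2 fun y hy hyU => ?_
    obtain ⟨v', hv', hyv⟩ := mem_biUnion.1 hyU
    obtain ⟨h1, h2⟩ := mem_sdiff.1 hyv
    have e1 := X.sym hAc (notMem_of_mem_orb hw hv') h2 h1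
    obtain ⟨l, hl, el⟩ := orb_trans (self_mem_orb A z) hy
    have hyc : cl K (insert y A) = insert y A := by
      rw [← el, ← smul_eq_self_of_fix (mem_pst.1 hl), ← smul_finset_insert, ← smul_cl, he]
    rw [e1] at hyc
    obtain ⟨l', hl', el'⟩ := orb_trans hv' (self_mem_orb A w)
    have := congrArg (fun S => l' • S) hyc
    simp only [smul_cl, smul_finset_insert, smul_eq_self_of_fix (mem_pst.1 hl'), el'] at this
    refine hwcl (eq_of_subset_of_card_le ?_ ?_).symm |> fun f => f
    · exact subset_cl _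
    · rw [this, card_insert_of_notMem hw, card_insert_of_notMem]
      rw [← smul_eq_self_of_fix (mem_pst.1 hl'), smul_mem_smul_finset_iff]
      exact h2
  obtain ⟨q, hq, hUd⟩ := X.bundle hA hAc hw
  have hM : 2 ≤ (X.cls A w).card := by
    rw [cls, card_sdiff_of_subset ((subset_insert w A).trans (subset_cl _))]
    have h1 := card_lt_card (Finset.ssubset_iff_subset_ne.2 ⟨subset_cl (K := K) (insert w A), Ne.symm hwcl⟩)
    rw [card_insert_of_notMem hw] at h1
    omega
  have h1 := defi_mono X.cx.hsm X.cx.hpro hA hAne (U := Aᶜ) (V := orb G A z ∪ U)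
    (fun h hh y hy => by
      rcases mem_union.1 hy with hy | hy
      · exact mem_union_left _ (orb_inv A z h hh y hy)
      · exact mem_union_right _ (X.bundle_inv.1 h hh y hy))
    (compl_inv fun h hh y hy => by rw [mem_pst.1 hh y hy]; exact hy)
    (union_subset (fun y hy => mem_compl.2 (notMem_of_mem_orb hz hy)) X.bundle_inv.2)
    (by rw [hclA]; exact disjoint_compl_left)
  rw [defi_union hdis, X.lvl.defi_compl hA hAc, hU, hUd] at h1
  obtain ⟨hd1, -⟩ := defi_orb_pos X.cx.hsm X.cx.hpro hA hAne (z := z) (by rw [hclA]; exact hz)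
  have hM' : (2 : ℤ) ≤ (X.cls A w).card := by exact_mod_cast hM
  have hMq : (2 : ℤ) ≤ (X.cls A w).card * q := by nlinarith
  refine X.lvl.level (by have := X.hk6; omega) hA hAc (notMem_of_mem_orb hz hbO) hbF hbe hw ?_ ?_
  · rw [orb_eq hbO]
    exact fun hm => Finset.disjoint_left.1 hdis hm
      (mem_biUnion.2 ⟨w, self_mem_orb A w, mem_sdiff.2 ⟨subset_cl _ (mem_insert_self w A), hw⟩⟩)
  · rw [orb_eq hbO]
    omega

theorem all_open {A : Finset Ω} (hAc : A.card = k - 1) {z : Ω} (hz : z ∉ A) :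
    ∃ y, y ∈ cl K (insert z A) ∧ y ∉ insert z A := by
  by_contra h
  push Not at h
  obtain ⟨g, hg, hgc⟩ := X.to_fix hAc
  refine X.all_open_fix hg hgc (z := g • z) (by rwa [smul_mem_smul_finset_iff]) ?_
  rw [← smul_finset_insert, ← smul_cl]
  exact congrArg (fun S => g • S) (Subset.antisymm (fun y hy => h y hy) (subset_cl _))

/-- Class sizes. -/
theorem cls_size {A : Finset Ω} (hA : A ⊆ fixSet K) (hAc : A.card = k - 1) {z : Ω} (hz : z ∉ A) :
    2 ≤ (X.cls A z).card ∧ (X.cls A z).card ≤ k - 1 ∧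
    ((X.cls A z).card + 2 ≤ k - 1 ∨ ∀ y, y ∉ A → (X.cls A y).card = (X.cls A z).card) := by
  classical
  have hclA := X.lvl.closed A hA hAc
  have hk3 := X.hk3
  have hAne : A.Nonempty := card_pos.1 (by omega)
  have hAinv : InvU (pst G A) A := fun h hh w hw => by rw [mem_pst.1 hh w hw]; exact hw
  have hM : ∀ y, y ∉ A → 2 ≤ (X.cls A y).card := fun y hy => by
    obtain ⟨v, hv, hv'⟩ := X.all_open hAc hy
    refine one_lt_card.2 ⟨y, mem_sdiff.2 ⟨subset_cl _ (mem_insert_self y A), hy⟩, v,
      mem_sdiff.2 ⟨hv, fun h => hv' (mem_insert_of_mem h)⟩, fun e => hv' (e ▸ mem_insert_self y A)⟩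
  obtain ⟨q, hq, hUd⟩ := X.bundle hA hAc hz
  set U := (orb G A z).biUnion (X.cls A) with hU
  have hd := X.lvl.defi_compl hA hAc
  have hdis : Disjoint Aᶜ (cl K A) := by rw [hclA]; exact disjoint_compl_left
  have h1 := defi_mono X.cx.hsm X.cx.hpro hA hAne X.bundle_inv.1 (compl_inv hAinv) X.bundle_inv.2 hdis
    (V := U) (U := Aᶜ)
  rw [hd, hUd] at h1
  have h2 : ((X.cls A z).card : ℤ) ≤ (X.cls A z).card * q := by nlinarith
  refine ⟨hM z hz, by omega, ?_⟩
  by_contra hc
  push Not at hc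
  obtain ⟨hc1, y, hy, hyne⟩ := hc
  have hyU : Disjoint ((orb G A y).biUnion (X.cls A)) U := by
    refine Finset.disjoint_left.2 fun v hv hv' => hyne ?_
    obtain ⟨y', hy', hvy⟩ := mem_biUnion.1 hv
    obtain ⟨z', hz', hvz⟩ := mem_biUnion.1 hv'
    have e1 := X.sym hAc (notMem_of_mem_orb hy hy') (mem_sdiff.1 hvy).2 (mem_sdiff.1 hvy).1
    have e2 := X.sym hAc (notMem_of_mem_orb hz hz') (mem_sdiff.1 hvz).2 (mem_sdiff.1 hvz).1
    have hcard : ∀ {p p' : Ω}, p' ∈ orb G A p → (X.cls A p').card = (X.cls A p).card := by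
      intro p p' hp
      obtain ⟨l, hl, rfl⟩ := mem_orb.1 hp
      simp only [cls]
      rw [← card_smul_finset l (cl K (insert p A) \ A), smul_finset_sdiff, smul_cl, smul_finset_insert,
        smul_eq_self_of_fix (mem_pst.1 hl)]
    rw [← hcard hy', ← hcard hz']
    simp only [cls]
    rw [← e1, ← e2]
  obtain ⟨q', hq', hUd'⟩ := X.bundle hA hAc hy
  have h3 := defi_mono X.cx.hsm X.cx.hpro hA hAne (U := Aᶜ) (V := (orb G A y).biUnion (X.cls A) ∪ U)
    (fun h hh v hv => by
      rcases mem_union.1 hv with hv | hv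
      · exact mem_union_left _ (X.bundle_inv.1 h hh v hv)
      · exact mem_union_right _ (X.bundle_inv.1 h hh v hv))
    (compl_inv hAinv) (union_subset X.bundle_inv.2 X.bundle_inv.2) hdis
  rw [defi_union hyU, hd, hUd, hUd'] at h3
  have h5 : (2 : ℤ) ≤ (X.cls A y).card * q' := by
    have : (2 : ℤ) ≤ (X.cls A y).card := by exact_mod_cast hM y hy
    nlinarith
  omega

/-- The general class size is bounded. -/
theorem cls_le {A : Finset Ω} (hAc : A.card = k - 1) {z : Ω} (hz : z ∉ A) :
    (cl K (insert z A)).card ≤ k - 1 + (k - 1) := by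
  obtain ⟨g, hg, hgc⟩ := X.to_fix hAc
  obtain ⟨-, h, -⟩ := X.cls_size hg hgc (z := g • z) (by rwa [smul_mem_smul_finset_iff])
  rw [cls, card_sdiff_of_subset ((subset_insert _ _).trans (subset_cl _)), ← smul_finset_insert, ← smul_cl,
    card_smul_finset, hgc] at h
  omega

/-- For `k ≤ 5` all classes have one size, two unless `k = 4` or everything has size four. -/
theorem uniform (hk : k ≤ 5) :
    ∃ M : ℕ, (∀ A : Finset Ω, A.card = k - 1 → ∀ z, z ∉ A → (cl K (insert z A)).card = k - 1 + M) ∧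
      2 ≤ M ∧ (k = 4 → M = 3) ∧ (k = 3 → M = 2) ∧ (k = 5 → M = 2 ∨ M = 4) := by
  classical
  obtain ⟨A₀, hA₀, hA₀c⟩ := exists_subset_card_eq (s := fixSet (Ω := Ω) K) (n := k - 1)
    (by have := X.hkf; omega)
  obtain ⟨z₀, hz₀'⟩ := X.cx.compl_not_empty
  have hz₀ : z₀ ∉ A₀ := fun h => mem_compl.1 hz₀' (hA₀ h)
  obtain ⟨h1, h2, h3⟩ := X.cls_size hA₀ hA₀c hz₀
  have hk3 := X.hk3
  have hall : ∀ y, y ∉ A₀ → (X.cls A₀ y).card = (X.cls A₀ z₀).card := by
    rcases h3 with h3 | h3
    · intro y hy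
      obtain ⟨a, b, c⟩ := X.cls_size hA₀ hA₀c hy
      rcases c with c | c
      · omega
      · exact (c z₀ hz₀).symm
    · exact h3
  refine ⟨(X.cls A₀ z₀).card, fun A hA z hz => ?_, h1, ?_, by omega, ?_⟩
  · obtain ⟨g, hg⟩ := X.jt.map_set hA.le (hA.trans hA₀c.symm)
    have := hall (g • z) (by rw [← hg]; rwa [smul_mem_smul_finset_iff])
    rw [← this, cls, card_sdiff_of_subset ((subset_insert _ _).trans (subset_cl _)), ← hg,
      ← smul_finset_insert, ← smul_cl, card_smul_finset, card_smul_finset, hA]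
    have h4 := card_le_card ((subset_insert z A).trans (subset_cl (K := K) (insert z A)))
    omega
  · intro hk4
    -- two classes of size two do not fit into deficit three
    by_contra hM
    have hM2 : (X.cls A₀ z₀).card = 2 := by omega
    set U := (orb G A₀ z₀).biUnion (X.cls A₀)
    obtain ⟨q, hq, hUd⟩ := X.bundle hA₀ hA₀c hz₀
    have hd := X.lvl.defi_compl hA₀ hA₀c
    have hclA := X.lvl.closed A₀ hA₀ hA₀c
    have hAinv : InvU (pst G A₀) A₀ := fun h hh w hw => by rw [mem_pst.1 hh w hw]; exact hw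
    have hAne : A₀.Nonempty := card_pos.1 (by omega)
    have hdis : Disjoint A₀ᶜ (cl K A₀) := by rw [hclA]; exact disjoint_compl_left
    rw [hM2] at hUd
    by_cases hfull : A₀ᶜ ⊆ U
    · have e : U = A₀ᶜ := Subset.antisymm X.bundle_inv.2 hfull
      rw [show (orb G A₀ z₀).biUnion (X.cls A₀) = A₀ᶜ from e, hd, hk4] at hUd
      omega
    obtain ⟨y, hy, hyU⟩ := not_subset.1 hfull
    obtain ⟨q', hq', hUd'⟩ := X.bundle hA₀ hA₀c (mem_compl.1 hy)
    rw [hall y (mem_compl.1 hy), hM2] at hUd'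
    have hyd : Disjoint ((orb G A₀ y).biUnion (X.cls A₀)) U := by
      refine Finset.disjoint_left.2 fun v hv hv' => hyU ?_
      obtain ⟨y', hy', hvy⟩ := mem_biUnion.1 hv
      obtain ⟨z', hz', hvz⟩ := mem_biUnion.1 hv'
      have e1 := X.sym hA₀c (notMem_of_mem_orb (mem_compl.1 hy) hy') (mem_sdiff.1 hvy).2 (mem_sdiff.1 hvy).1
      have e2 := X.sym hA₀c (notMem_of_mem_orb hz₀ hz') (mem_sdiff.1 hvz).2 (mem_sdiff.1 hvz).1
      have hy'U : y' ∈ U := mem_biUnion.2 ⟨z', hz', mem_sdiff.2 ⟨by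
        rw [← e2, e1]; exact subset_cl _ (mem_insert_self _ _), notMem_of_mem_orb (mem_compl.1 hy) hy'⟩⟩
      obtain ⟨l, hl, el⟩ := orb_trans hy' (self_mem_orb A₀ y)
      exact el ▸ X.bundle_inv.1 l hl _ hy'U
    have h4 := defi_mono X.cx.hsm X.cx.hpro hA₀ hAne (U := A₀ᶜ)
      (V := (orb G A₀ y).biUnion (X.cls A₀) ∪ U)
      (fun h hh v hv => by
        rcases mem_union.1 hv with hv | hv
        · exact mem_union_left _ (X.bundle_inv.1 h hh v hv)
        · exact mem_union_right _ (X.bundle_inv.1 h hh v hv))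
      (compl_inv hAinv) (union_subset X.bundle_inv.2 X.bundle_inv.2) hdis
    rw [defi_union hyd, hd, hUd, hUd', hk4] at h4
    omega
  · intro hk5
    rcases h3 with h3 | h3
    · left; omega
    · by_contra hM
      push Not at hM
      have hM3 : (X.cls A₀ z₀).card = 3 := by omega
      obtain ⟨q, hq, hUd⟩ := X.bundle hA₀ hA₀c hz₀
      set U := (orb G A₀ z₀).biUnion (X.cls A₀)
      have hclA := X.lvl.closed A₀ hA₀ hA₀c
      have hAinv : InvU (pst G A₀) A₀ := fun h hh w hw => by rw [mem_pst.1 hh w hw]; exact hw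
      have hAne : A₀.Nonempty := card_pos.1 (by omega)
      have hdis : Disjoint A₀ᶜ (cl K A₀) := by rw [hclA]; exact disjoint_compl_left
      rw [hM3] at hUd
      have hd := X.lvl.defi_compl hA₀ hA₀c
      by_cases hfull : A₀ᶜ ⊆ U
      · have e : U = A₀ᶜ := Subset.antisymm X.bundle_inv.2 hfull
        rw [e, hd, hk5] at hUd
        omega
      obtain ⟨y, hy, hyU⟩ := not_subset.1 hfull
      obtain ⟨q', hq', hUd'⟩ := X.bundle hA₀ hA₀c (mem_compl.1 hy)
      rw [hall y (mem_compl.1 hy), hM3] at hUd'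
      have hyd : Disjoint ((orb G A₀ y).biUnion (X.cls A₀)) U := by
        refine Finset.disjoint_left.2 fun v hv hv' => hyU ?_
        obtain ⟨y', hy', hvy⟩ := mem_biUnion.1 hv
        obtain ⟨z', hz', hvz⟩ := mem_biUnion.1 hv'
        have e1 := X.sym hA₀c (notMem_of_mem_orb (mem_compl.1 hy) hy') (mem_sdiff.1 hvy).2 (mem_sdiff.1 hvy).1
        have e2 := X.sym hA₀c (notMem_of_mem_orb hz₀ hz') (mem_sdiff.1 hvz).2 (mem_sdiff.1 hvz).1
        have hy'U : y' ∈ U := mem_biUnion.2 ⟨z', hz', mem_sdiff.2 ⟨by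
          rw [← e2, e1]; exact subset_cl _ (mem_insert_self _ _), notMem_of_mem_orb (mem_compl.1 hy) hy'⟩⟩
        obtain ⟨l, hl, el⟩ := orb_trans hy' (self_mem_orb A₀ y)
        exact el ▸ X.bundle_inv.1 l hl _ hy'U
      have h4 := defi_mono X.cx.hsm X.cx.hpro hA₀ hAne (U := A₀ᶜ)
        (V := (orb G A₀ y).biUnion (X.cls A₀) ∪ U)
        (fun h hh v hv => by
          rcases mem_union.1 hv with hv | hv
          · exact mem_union_left _ (X.bundle_inv.1 h hh v hv)
          · exact mem_union_right _ (X.bundle_inv.1 h hh v hv))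
        (compl_inv hAinv) (union_subset X.bundle_inv.2 X.bundle_inv.2) hdis
      rw [defi_union hyd, hd, hUd, hUd', hk5] at h4
      omega

end Top

end CfsgLib.ProFix
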