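import Cfsg.Agent.Lib.Perm.ProFix.Level
import Cfsg.Agent.Lib.Recog.Marggraff

/-!
# Degree `2f`: a `p`-group and the alternating group are impossible
-/

set_option autoImplicit false

open scoped Pointwise
open Finset MulAction

namespace CfsgLib.ProFix

variable {G Ω : Type} [Group G] [Finite G] [MulAction G Ω] [Fintype Ω] [DecidableEq Ω] {K : Subgroup G}

theorem cj_cj (g h : G) (H : Subgroup G) : cj g (cj h H) = cj (g * h) H := by
  ext x
  simp only [mem_cj, mul_inv_rev, mul_assoc]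

theorem cj_one (H : Subgroup G) : cj (1 : G) H = H := by
  ext x
  simp [mem_cj]

theorem eq_of_le_normalizer (hpro : IsPro K) {g : G}
    (h : K ≤ Subgroup.normalizer ((cj g K : Subgroup G) : Set G)) : cj g K = K := by
  obtain ⟨w, hw, e⟩ := hpro g
  have hw' : w ∈ Subgroup.normalizer ((cj g K : Subgroup G) : Set G) := sup_le h Subgroup.le_normalizer hw
  ext x
  constructor
  · intro hx
    have h2 : w * x * w⁻¹ ∈ cj g K := (Subgroup.mem_normalizer_iff.1 hw' x).1 hx
    rw [← e, mem_cj] at h2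
    simpa [mul_assoc] using h2
  · intro hx
    have h2 : w * x * w⁻¹ ∈ cj g K := e ▸ mem_cj.2 (by simpa [mul_assoc] using hx)
    exact (Subgroup.mem_normalizer_iff.1 hw' x).2 h2

theorem mem_normalizer_of_cj_eq {k : G} {H : Subgroup G} (h : cj k H = H) :
    k ∈ Subgroup.normalizer (H : Set G) := by
  refine Subgroup.mem_normalizer_iff.2 fun x => ?_
  conv_rhs => rw [← h, mem_cj]
  simp [mul_assoc]

/-- `K` is not a `p`-group: the conjugates fixing a point would be half of all. -/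
theorem not_isPGroup [IsPretransitive G Ω] (hpro : IsPro K)
    (hn : Fintype.card Ω = 2 * (fixSet (Ω := Ω) K).card) (hf : 0 < (fixSet (Ω := Ω) K).card)
    {p : ℕ} (hp : p.Prime) (hK : IsPGroup p K) : False := by
  classical
  have : Fact p.Prime := ⟨hp⟩
  have : Fintype G := Fintype.ofFinite G
  obtain ⟨a, ha⟩ := card_pos.1 hf
  set 𝒦 : Finset (Subgroup G) := univ.image fun g => cj g K with h𝒦
  have hfixcard : ∀ H ∈ 𝒦, (fixSet (Ω := Ω) H).card = (fixSet (Ω := Ω) K).card := by
    intro H hH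
    obtain ⟨g, -, rfl⟩ := mem_image.1 hH
    have : fixSet (Ω := Ω) (cj g K) = g • fixSet (Ω := Ω) K := by
      ext z
      rw [← inv_smul_mem_iff, mem_fixSet, mem_fixSet, fixes_cj]
    rw [this, card_smul_finset]
  have hR : ∀ z : Ω, (𝒦.filter fun H => Fixes H z).card = (𝒦.filter fun H => Fixes H a).card := by
    intro z
    obtain ⟨g, rfl⟩ := exists_smul_eq G a z
    refine (card_nbij' (fun H => cj g H) (fun H => cj g⁻¹ H) (fun H hH => ?_) (fun H hH => ?_)
      (fun H _ => by simp only; rw [cj_cj, inv_mul_cancel, cj_one])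
      (fun H _ => by simp only; rw [cj_cj, mul_inv_cancel, cj_one])).symm
    · simp only [Finset.coe_filter, Set.mem_ofPred_eq, h𝒦, mem_image] at hH ⊢
      obtain ⟨⟨u, -, rfl⟩, h2⟩ := hH
      exact ⟨⟨g * u, mem_univ _, (cj_cj g u K).symm⟩, fixes_cj.2 (by rwa [inv_smul_smul])⟩
    · simp only [Finset.coe_filter, Set.mem_ofPred_eq, h𝒦, mem_image] at hH ⊢
      obtain ⟨⟨u, -, rfl⟩, h2⟩ := hH
      exact ⟨⟨g⁻¹ * u, mem_univ _, (cj_cj g⁻¹ u K).symm⟩, fixes_cj.2 (by rwa [inv_inv])⟩
  have hdc := sum_card_bipartiteAbove_eq_sum_card_bipartiteBelow (s := 𝒦) (t := (univ : Finset Ω))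
    (fun H z => Fixes H z)
  simp only [bipartiteAbove, bipartiteBelow] at hdc
  rw [sum_congr rfl (fun H hH => show ((univ : Finset Ω).filter fun z => Fixes H z).card =
      (fixSet (Ω := Ω) K).card by rw [← hfixcard H hH]; rfl), sum_congr rfl (fun z _ => hR z), sum_const,
    sum_const, card_univ, smul_eq_mul, smul_eq_mul, hn] at hdc
  have hC : 𝒦.card = 2 * (𝒦.filter fun H => Fixes H a).card :=
    Nat.eq_of_mul_eq_mul_right hf (hdc.trans (by ring))
  have key : ∀ T : Finset (Subgroup G), T ⊆ 𝒦 → K ∈ T → (∀ k ∈ K, ∀ H ∈ T, cj k H ∈ T) →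
      T.card ≡ 1 [MOD p] := by
    intro T hT hKT hinv
    let act : MulAction K ↥T :=
      { smul := fun k H => ⟨cj (k : G) H.1, hinv k k.2 H.1 H.2⟩
        one_smul := fun H => Subtype.ext (cj_one H.1)
        mul_smul := fun k l H => Subtype.ext (cj_cj (k : G) (l : G) H.1).symm }
    have h := hK.card_modEq_card_fixedPoints (α := ↥T)
    rw [Nat.card_eq_fintype_card, Fintype.card_coe] at h
    refine h.trans ?_
    have aux : ∀ z : fixedPoints K ↥T, (z.1 : Subgroup G) = K := by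
      intro z
      obtain ⟨g, -, e⟩ := mem_image.1 (hT z.1.2)
      rw [← e]
      refine eq_of_le_normalizer hpro fun k hk => mem_normalizer_of_cj_eq ?_
      rw [e]
      exact congrArg Subtype.val (z.2 ⟨k, hk⟩)
    have hKfix : (⟨K, hKT⟩ : ↥T) ∈ fixedPoints K ↥T := fun k => by
      refine Subtype.ext (Subgroup.ext fun x => ?_)
      show x ∈ cj (k : G) K ↔ x ∈ K
      rw [mem_cj]
      exact ⟨fun h => by simpa [mul_assoc] using mul_mem (mul_mem k.2 h) (inv_mem k.2),
        fun h => mul_mem (mul_mem (inv_mem k.2) h) k.2⟩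
    rw [Nat.card_eq_one_iff_unique.2
      ⟨⟨fun x y => Subtype.ext (Subtype.ext ((aux x).trans (aux y).symm))⟩, ⟨⟨_, hKfix⟩⟩⟩]
  have hKm : K ∈ 𝒦 := mem_image.2 ⟨1, mem_univ _, cj_one K⟩
  have h1 := key 𝒦 Subset.rfl hKm fun k _ H hH => by
    obtain ⟨u, -, rfl⟩ := mem_image.1 hH
    exact mem_image.2 ⟨k * u, mem_univ _, (cj_cj k u K).symm⟩
  have h2 := key (𝒦.filter fun H => Fixes H a) (filter_subset _ _)
    (mem_filter.2 ⟨hKm, mem_fixSet.1 ha⟩) fun k hk H hH => by
      obtain ⟨hH1, hH2⟩ := mem_filter.1 hH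
      obtain ⟨u, -, rfl⟩ := mem_image.1 hH1
      refine mem_filter.2 ⟨mem_image.2 ⟨k * u, mem_univ _, (cj_cj k u K).symm⟩, fixes_cj.2 ?_⟩
      rw [inv_smul_eq_iff.2 (smul_fixed hk ha).symm]
      exact hH2
  rw [hC] at h1
  have h3 : (1 : ℕ) ≡ 2 [MOD p] := h1.symm.trans (h2.mul_left 2)
  have h4 := Nat.le_of_dvd one_pos ((Nat.modEq_iff_dvd' (by norm_num : 1 ≤ 2)).1 h3)
  have := hp.two_le
  omega

/-- The translates of the fixed set of a nontrivial pronormal subgroup are never complementary. -/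
theorem not_compl [FaithfulSMul G Ω] (hpro : IsPro K) (hmov : ∃ a : Ω, ¬ Fixes K a) {g : G}
    (h : g • fixSet (Ω := Ω) K = (fixSet (Ω := Ω) K)ᶜ) : False := by
  have hfix : ∀ l ∈ cj g K, ∀ z : Ω, z ∉ fixSet (Ω := Ω) K → l • z = z := fun l hl z hz => by
    have : z ∈ g • fixSet (Ω := Ω) K := by rw [h]; exact mem_compl.2 hz
    rw [← inv_smul_mem_iff, mem_fixSet, ← fixes_cj] at this
    exact this l hl
  have hFinv : ∀ k ∈ K, ∀ z : Ω, z ∉ fixSet (Ω := Ω) K → k • z ∉ fixSet (Ω := Ω) K := fun k hk z hz hk' => by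
    have := smul_fixed (inv_mem hk) hk'
    rw [inv_smul_smul] at this
    exact hz (this ▸ hk')
  have hFinv' : ∀ l ∈ cj g K, ∀ z : Ω, z ∈ fixSet (Ω := Ω) K → l • z ∈ fixSet (Ω := Ω) K :=
    fun l hl z hz => by
      by_contra hl'
      have := hfix _ (inv_mem hl) _ hl'
      rw [inv_smul_smul] at this
      exact hl' (this ▸ hz)
  have hcomm : ∀ k ∈ K, ∀ l ∈ cj g K, k * l = l * k := fun k hk l hl =>
    FaithfulSMul.eq_of_smul_eq_smul fun z : Ω => by
      simp only [mul_smul]
      by_cases hz : z ∈ fixSet (Ω := Ω) K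
      · rw [smul_fixed hk (hFinv' l hl z hz), smul_fixed hk hz]
      · rw [hfix l hl z hz, hfix l hl _ (hFinv k hk z hz)]
  have e : cj g K = K := eq_of_le_normalizer hpro fun k hk => mem_normalizer_of_cj_eq (by
    ext x
    rw [mem_cj]
    constructor
    · intro hx
      have h2 := hcomm k hk _ hx
      have h3 : x = k⁻¹ * x * k := by
        refine mul_right_cancel (b := k) ?_
        rw [← h2]
        group
      rw [h3]; exact hx
    · intro hx
      rwa [mul_assoc, ← hcomm k hk x hx, inv_mul_cancel_left])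
  obtain ⟨a, ha⟩ := hmov
  refine ha fun k hk => ?_
  exact hfix k (by rw [e]; exact hk) a (fun hm => ha (mem_fixSet.1 hm))

/-- No three-cycle. -/
theorem no_threeCycle [FaithfulSMul G Ω] (hpro : IsPro K) (hmov : ∃ a : Ω, ¬ Fixes K a)
    (hn : Fintype.card Ω = 2 * (fixSet (Ω := Ω) K).card) (hf : 2 ≤ (fixSet (Ω := Ω) K).card)
    (hjt : JT G Ω 2) {x : G} (hx : (MulAction.toPerm x : Equiv.Perm Ω).IsThreeCycle) : False := by
  classical
  have h2 : IsMultiplyPretransitive G Ω 2 := is_two_pretransitive_iff.2 fun {a b c d} hab hcd => by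
    obtain ⟨g, hg⟩ := hjt {a, b} (fun z => if (z : Ω) = a then c else d) (by rw [card_pair hab])
      (fun p q e => by
        apply Subtype.ext
        have hp : (p : Ω) = a ∨ (p : Ω) = b := (mem_insert.1 p.2).imp_right mem_singleton.1
        have hq : (q : Ω) = a ∨ (q : Ω) = b := (mem_insert.1 q.2).imp_right mem_singleton.1
        rcases hp with hp | hp <;> rcases hq with hq | hq <;>
          simp_all [Ne.symm hab, hcd, Ne.symm hcd])
    refine ⟨g, ?_, ?_⟩
    · simpa using hg ⟨a, mem_insert_self _ _⟩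
    · simpa [Ne.symm hab] using hg ⟨b, mem_insert_of_mem (mem_singleton_self _)⟩
  set R := (MulAction.toPermHom G Ω).range
  have hprim : IsPreprimitive R Ω := by
    have := isPreprimitive_of_is_two_pretransitive h2
    exact IsPreprimitive.of_surjective (φ := (MulAction.toPermHom G Ω).rangeRestrict)
      (f := { toFun := (id : Ω → Ω), map_smul' := fun m z => rfl }) Function.surjective_id
  have hA : alternatingGroup Ω ≤ R :=
    Equiv.Perm.alternatingGroup_le_of_isPreprimitive_of_isThreeCycle_mem hprim hx ⟨x, rfl⟩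
  set F := fixSet (Ω := Ω) K
  let e := Finset.equivOfCardEq (s := F) (t := Fᶜ) (by rw [card_compl, hn]; omega)
  let σ : Equiv.Perm Ω := e.extendSubtype
  have hσ : ∀ z ∈ F, σ z ∈ Fᶜ := fun z hz => by
    simp only [σ, Equiv.extendSubtype_apply_of_mem e z hz]
    exact (e ⟨z, hz⟩).2
  obtain ⟨a, ha, b, hb, hab⟩ := one_lt_card.1 (show 1 < F.card from hf)
  obtain ⟨τ, hτs, hτ⟩ : ∃ τ : Equiv.Perm Ω, Equiv.Perm.sign τ = 1 ∧ ∀ z ∈ F, τ z ∈ Fᶜ := by
    rcases Int.units_eq_one_or (Equiv.Perm.sign σ) with h | h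
    · exact ⟨σ, h, hσ⟩
    · refine ⟨σ * Equiv.swap a b, by rw [Equiv.Perm.sign_mul, h, Equiv.Perm.sign_swap hab]; rfl,
        fun z hz => hσ _ ?_⟩
      by_cases e1 : z = a
      · rw [e1, Equiv.swap_apply_left]; exact hb
      by_cases e2 : z = b
      · rw [e2, Equiv.swap_apply_right]; exact ha
      rwa [Equiv.swap_apply_of_ne_of_ne e1 e2]
  obtain ⟨g, hg⟩ := hA (Equiv.Perm.mem_alternatingGroup.2 hτs)
  refine not_compl hpro hmov (g := g) (eq_of_subset_of_card_le (fun z hz => ?_) ?_)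
  · obtain ⟨w, hw, rfl⟩ := mem_smul_finset.1 hz
    rw [show g • w = τ w from Equiv.Perm.congr_fun hg w]
    exact hτ w hw
  · have e : F.card = (fixSet (Ω := Ω) K).card := rfl
    rw [card_smul_finset, card_compl, hn]; omega

end CfsgLib.ProFix
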