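import Cfsg.Agent.Lib.Perm.ProFix.Congr

/-!
# Coverage and transitivity below the first level with a nontrivial closure
-/

set_option autoImplicit false

open scoped Pointwise
open Finset MulAction

namespace CfsgLib.ProFix

variable {G Ω : Type} [Group G] [Finite G] [MulAction G Ω] [Fintype Ω] [DecidableEq Ω] {K : Subgroup G}

/-- A counterexample: faithful, transitive, nontrivial pronormal `K`, degree `2f`. -/
structure Cx (K : Subgroup G) : Prop where
  hsm : Small (Fintype.card Ω)
  hpro : IsPro K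
  htr : IsPretransitive G Ω
  hmov : ∃ a : Ω, ¬ Fixes K a
  hn : Fintype.card Ω = 2 * (fixSet (Ω := Ω) K).card
  hf : 0 < (fixSet (Ω := Ω) K).card

theorem eq_double [IsPretransitive G Ω] (hsm : Small (Fintype.card Ω)) (hpro : IsPro K)
    (hmov : ∃ a : Ω, ¬ Fixes K a) (hle : Fintype.card Ω ≤ 2 * (fixSet (Ω := Ω) K).card) :
    Cx (Ω := Ω) K := by
  obtain ⟨a, ha⟩ := fixSet_nonempty_of_le hmov (by omega)
  obtain ⟨b, hb⟩ := hmov
  have hA : ({a} : Finset Ω) ⊆ fixSet K := singleton_subset_iff.2 ha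
  have hcl := cl_singleton hsm hpro ⟨b, hb⟩ (by omega) a
  have h := defi_pos hsm hpro hA (singleton_nonempty _) (compl_singleton_inv a)
    (by rw [hcl]; exact disjoint_compl_left)
    ⟨b, by simp only [mem_compl, mem_singleton]; exact fun e => hb (e ▸ mem_fixSet.1 ha)⟩
  rw [defi_compl_singleton hsm hpro ⟨b, hb⟩ (by omega) ha] at h
  exact ⟨hsm, hpro, inferInstance, ⟨b, hb⟩, by omega, card_pos.2 ⟨a, ha⟩⟩

namespace Cx

variable (X : Cx (Ω := Ω) K)
include X

theorem cl_single (w : Ω) : cl K ({w} : Finset Ω) = {w} := by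
  have := X.htr
  exact cl_singleton X.hsm X.hpro X.hmov (by have := X.hn; omega) w

theorem moved_card : ((fixSet (Ω := Ω) K)ᶜ).card = (fixSet (Ω := Ω) K).card := by
  rw [card_compl, X.hn]; omega

theorem compl_not_empty : ((fixSet (Ω := Ω) K)ᶜ).Nonempty := by
  rw [← card_pos, X.moved_card]; exact X.hf

theorem jt_one : JT G Ω 1 := by
  intro s f hs _
  have := X.htr
  rcases s.eq_empty_or_nonempty with h | ⟨a, ha⟩
  · subst h; exact ⟨1, fun x => absurd x.2 (notMem_empty _)⟩
  · obtain ⟨g, hg⟩ := exists_smul_eq G a (f ⟨a, ha⟩)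
    refine ⟨g, fun x => ?_⟩
    obtain ⟨x, hx⟩ := x
    obtain rfl : x = a := card_le_one.1 hs x hx a ha
    exact hg

/-- Transitivity of the stabiliser of `j` points of `F` gives one more level. -/
theorem succ_of_fix {j : ℕ} (hjt : JT G Ω j) (hjf : j ≤ (fixSet (Ω := Ω) K).card)
    (h : ∀ A : Finset Ω, A ⊆ fixSet K → A.card = j → (orbs G A Aᶜ).card ≤ 1) : JT G Ω (j + 1) := by
  refine hjt.succ fun A hA x hx y hy => ?_
  obtain ⟨A₀, hA₀F, hA₀⟩ := exists_subset_card_eq hjf
  obtain ⟨g, rfl⟩ := hjt.map_set (hA₀.le) (hA₀.trans hA.symm)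
  rw [← inv_smul_mem_iff] at hx hy
  obtain ⟨k, hk, e⟩ := orbs_eq_one (h A₀ hA₀F hA₀) (mem_compl.2 hx) (mem_compl.2 hy)
  exact ⟨g * k * g⁻¹, conj_mem_pst hk, by rw [mul_smul, mul_smul, e, smul_inv_smul]⟩

theorem jt_two : JT G Ω 2 := by
  refine X.succ_of_fix X.jt_one X.hf fun A hA hAc => ?_
  obtain ⟨a, rfl⟩ := card_eq_one.1 hAc
  have := X.htr
  have h := card_le_defi X.hsm X.hpro hA (singleton_nonempty _) (compl_singleton_inv a)
    (by rw [X.cl_single]; exact disjoint_compl_left)
  rw [defi_compl_singleton X.hsm X.hpro X.hmov (by have := X.hn; omega) (singleton_subset_iff.1 hA), X.hn] at h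
  push_cast at h
  omega

/-- All subsets of `F` with fewer than `k` points are closed. -/
def ClosedBelow (_X : Cx (Ω := Ω) K) (k : ℕ) : Prop :=
  ∀ A : Finset Ω, A ⊆ fixSet K → A.card < k → cl K A = A

theorem defi_compl {k : ℕ} (hcl : X.ClosedBelow k) {A : Finset Ω} (hA : A ⊆ fixSet K) (hAk : A.card < k) :
    defi K Aᶜ = A.card := by
  have := defi_compl_cl (K := K) hA
  rw [hcl A hA hAk, X.hn] at this
  rw [this]; push_cast; ring

/-- A fixed point in the orbit when the extended set is covered. -/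
theorem inter_nonempty {A : Finset Ω} (hA : A ⊆ fixSet K) {z : Ω} {g : G}
    (h : insert z A ⊆ g • fixSet (Ω := Ω) K) : (orb G A z ∩ fixSet K).Nonempty := by
  rw [← card_pos, ← inter_card_eq X.hpro (orb_inv A z) hA ((subset_insert z A).trans h), card_pos]
  exact ⟨z, mem_inter.2 ⟨self_mem_orb A z, h (mem_insert_self z A)⟩⟩

/-- Coverage: every set of at most `k` points lies in a translate of `F`. -/
theorem covered {k : ℕ} (hcl : X.ClosedBelow k) :
    ∀ T : Finset Ω, T.card ≤ k → ∃ g : G, T ⊆ g • fixSet (Ω := Ω) K := by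
  suffices H : ∀ j : ℕ, ∀ T : Finset Ω, T.card ≤ j → j ≤ k → ∃ g : G, T ⊆ g • fixSet (Ω := Ω) K from
    fun T hT => H T.card T le_rfl hT
  intro j
  induction j with
  | zero => intro T hT _; exact ⟨1, by rw [card_eq_zero.1 (Nat.le_zero.1 hT)]; exact empty_subset _⟩
  | succ j ih =>
    intro T hT hjk
    by_cases hTj : T.card ≤ j
    · exact ih T hTj (by omega)
    obtain ⟨z, hz⟩ : T.Nonempty := card_pos.1 (by omega)
    by_cases hj0 : j = 0
    · obtain ⟨a, ha⟩ := card_pos.1 X.hf
      have := X.htr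
      obtain ⟨g, hg⟩ := exists_smul_eq G a z
      refine ⟨g, fun w hw => ?_⟩
      rw [card_le_one.1 (by omega) w hw z hz, ← hg]
      exact smul_mem_smul_finset ha
    obtain ⟨g, hg⟩ := ih (T.erase z) (by rw [card_erase_of_mem hz]; omega) (by omega)
    set A := g⁻¹ • T.erase z with hA
    have hAF : A ⊆ fixSet K := by rw [hA]; exact smul_finset_subset_iff.2 (by rwa [inv_inv])
    have hAc : A.card = j := by rw [hA, card_smul_finset, card_erase_of_mem hz]; omega
    have hzA : g⁻¹ • z ∉ A := by rw [hA, smul_mem_smul_finset_iff]; exact notMem_erase z T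
    have hclA := hcl A hAF (by omega)
    set O := orb G A (g⁻¹ • z) with hO
    by_cases hOF : (O ∩ fixSet K).Nonempty
    · obtain ⟨y, hy⟩ := hOF
      obtain ⟨hyO, hyF⟩ := mem_inter.1 hy
      obtain ⟨h, hh, rfl⟩ := mem_orb.1 hyO
      refine ⟨g * h⁻¹, fun w hw => ?_⟩
      rw [← inv_smul_mem_iff, mul_inv_rev, inv_inv, mul_smul]
      by_cases hwz : w = z
      · rw [hwz]; exact hyF
      · have hwA : g⁻¹ • w ∈ A := smul_mem_smul_finset (mem_erase.2 ⟨hwz, hw⟩)
        rw [mem_pst.1 hh _ hwA]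
        exact hAF hwA
    exfalso
    rw [not_nonempty_iff_eq_empty] at hOF
    have hle := defi_mono X.hsm X.hpro hAF (card_pos.1 (by omega)) (orb_inv A (g⁻¹ • z))
      (compl_inv fun h hh w hw => by rw [mem_pst.1 hh w hw]; exact hw)
      (fun w hw => mem_compl.2 (notMem_of_mem_orb hzA hw)) (by rw [hclA]; exact disjoint_compl_left)
    rw [X.defi_compl hcl hAF (by omega), hAc, ← hO, defi, hOF, card_empty] at hle
    obtain ⟨g', hg'⟩ := ih O (by omega) (by omega)
    have hsub := subset_of_inv X.hpro (fun k hk w hw => orb_inv A _ k (le_pst hAF hk) w hw) hg'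
    have : g⁻¹ • z ∈ O ∩ fixSet K := mem_inter.2 ⟨self_mem_orb A _, hsub (self_mem_orb A _)⟩
    rw [hOF] at this
    exact notMem_empty _ this

/-- An invariant set of at most `k` points is fixed. -/
theorem small_inv {k : ℕ} (hcl : X.ClosedBelow k) {T : Finset Ω} (hT : InvU K T) (hTc : T.card ≤ k) :
    T ⊆ fixSet K := by
  obtain ⟨g, hg⟩ := X.covered hcl T hTc
  exact subset_of_inv X.hpro hT hg

/-- The first level with a nontrivial closure. -/
theorem exists_level : ∃ k : ℕ, 2 ≤ k ∧ k < (fixSet (Ω := Ω) K).card ∧ X.ClosedBelow k ∧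
    ∃ B : Finset Ω, B ⊆ fixSet K ∧ B.card = k ∧ cl K B ≠ B := by
  classical
  have hex : ∃ k : ℕ, ∃ B : Finset Ω, B ⊆ fixSet K ∧ B.card = k ∧ cl K B ≠ B := by
    by_contra hno
    push Not at hno
    have hcl : X.ClosedBelow ((fixSet (Ω := Ω) K).card + 1) := fun A hA _ => hno _ A hA rfl
    have := X.small_inv hcl (T := (fixSet (Ω := Ω) K)ᶜ) (fun k hk z hz => by
      rw [mem_compl] at hz ⊢
      intro h
      have := smul_fixed (inv_mem hk) h
      rw [inv_smul_smul] at this
      exact hz (this ▸ h)) (by rw [X.moved_card]; omega)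
    obtain ⟨z, hz⟩ := X.compl_not_empty
    exact (mem_compl.1 hz) (this hz)
  obtain ⟨B, hBF, hBk, hBcl⟩ := Nat.find_spec hex
  refine ⟨Nat.find hex, ?_, ?_, fun A hA hAk => ?_, B, hBF, hBk, hBcl⟩
  · by_contra h
    rcases Nat.lt_or_ge B.card 1 with h1 | h1
    · have e : B = ∅ := card_eq_zero.1 (by omega)
      have := X.htr
      exact hBcl (by rw [e]; exact cl_empty X.hmov)
    · obtain ⟨w, rfl⟩ := card_eq_one.1 (show B.card = 1 by omega)
      exact hBcl (X.cl_single w)
  · rw [← hBk]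
    refine card_lt_card ⟨hBF, fun h => hBcl ?_⟩
    have e : B = fixSet K := Subset.antisymm hBF h
    rw [e]
    exact Subset.antisymm (cl_subset Subset.rfl) (subset_cl _)
  · by_contra h
    exact Nat.find_min hex hAk ⟨A, hA, rfl, h⟩

/-- Transitivity up to the first level with a nontrivial closure. -/
theorem jt_of_closed {k : ℕ} (hcl : X.ClosedBelow k) (hkf : k ≤ (fixSet (Ω := Ω) K).card) :
    ∀ j : ℕ, j ≤ 6 → j < k → JT G Ω j := by
  intro j
  induction j with
  | zero => exact fun _ _ => X.jt_two.mono (by omega)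
  | succ j ih =>
    intro hj hjk
    by_cases hj2 : j < 2
    · exact X.jt_two.mono (by omega)
    have hjt := ih (by omega) (by omega)
    refine X.succ_of_fix hjt (by omega) fun A hA hAc => ?_
    by_contra hcon
    have L : Lvl (Ω := Ω) K j :=
      ⟨X.hsm, X.hpro, X.hn, hjt, by omega, fun A hA hAc => hcl A hA (by omega)⟩
    have hclA := L.closed A hA hAc
    have hAne : A.Nonempty := card_pos.1 (by omega)
    have hAinv : InvU (pst G A) A := fun h hh w hw => by rw [mem_pst.1 hh w hw]; exact hw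
    obtain ⟨O, hO, hmin⟩ := (orbs G A Aᶜ).exists_min_image (defi K) (card_pos.1 (by omega))
    obtain ⟨z, hz, rfl⟩ := mem_image.1 hO
    rw [mem_compl] at hz
    obtain ⟨g, hg⟩ := X.covered hcl (insert z A) (by rw [card_insert_of_notMem hz]; omega)
    obtain ⟨b, hb⟩ := X.inter_nonempty hA hg
    obtain ⟨hbO, hbF⟩ := mem_inter.1 hb
    have hbA := notMem_of_mem_orb hz hbO
    obtain ⟨O', hO', hne⟩ := exists_mem_ne (show 1 < (orbs G A Aᶜ).card by omega) (orb G A z)
    obtain ⟨w, hw, rfl⟩ := mem_image.1 hO'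
    rw [mem_compl] at hw
    have hpair : defi K (orb G A z) + defi K (orb G A w) ≤ j := by
      have h1 : ∑ O ∈ ({orb G A z, orb G A w} : Finset (Finset Ω)), defi K O ≤ defi K Aᶜ := by
        rw [defi_eq_sum (compl_inv hAinv)]
        refine sum_le_sum_of_subset_of_nonneg (by simp [insert_subset_iff, hO, hO']) fun Y hY _ => ?_
        obtain ⟨y, hy, rfl⟩ := mem_image.1 hY
        have := (defi_orb_pos X.hsm X.hpro hA hAne (z := y) (by rw [hclA]; exact mem_compl.1 hy)).1
        omega
      rwa [sum_pair (Ne.symm hne), L.defi_compl hA hAc] at h1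
    have hmin' := hmin _ hO'
    refine L.level (by omega) hA hAc hbA hbF
      (hcl _ (insert_subset hbF hA) (by rw [card_insert_of_notMem hbA]; omega)) hw
      (fun h => hne (by rw [← orb_eq hbO, ← orb_eq h])) ?_
    rw [orb_eq hbO]
    have := (defi_orb_pos X.hsm X.hpro hA hAne (z := z) (by rw [hclA]; exact hz)).1
    omega

end Cx

end CfsgLib.ProFix
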