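import Cfsg.Agent.Lib.Perm.ProFix.Level

/-!
# Averaging commutators in multiply transitive groups

For an element `x` moving `m` points, average the support of `[x, g x g⁻¹]` over the `g` with `g a = a`
that send a prescribed set `Q` of moved points, containing `x a`, to fixed points of `x`.
-/

set_option autoImplicit false

open scoped Pointwise
open Finset MulAction

namespace CfsgLib.ProFix

variable {G Ω : Type} [Group G] [Finite G] [MulAction G Ω] [Fintype Ω] [DecidableEq Ω]

theorem card_pst_eq {t : ℕ} (hjt : JT G Ω t) {R R' : Finset Ω} (hR : R.card ≤ t) (h : R.card = R'.card) :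
    Nat.card (pst G R') = Nat.card (pst G R) := by
  obtain ⟨g, rfl⟩ := hjt.map_set hR h
  refine Nat.card_congr ⟨fun k => ⟨g⁻¹ * k * g, ?_⟩, fun k => ⟨g * k * g⁻¹, conj_mem_pst k.2⟩,
    fun k => Subtype.ext ?_, fun k => Subtype.ext ?_⟩
  · have := conj_mem_pst (g := g⁻¹) k.2
    rwa [inv_smul_smul, inv_inv] at this
  · simp [mul_assoc]
  · simp [mul_assoc]

/-- The moved points. -/
noncomputable def moved (x : G) : Finset Ω := univ.filter fun z => x • z ≠ z

theorem mem_moved {x : G} {z : Ω} : z ∈ (moved x : Finset Ω) ↔ x • z ≠ z := by simp [moved]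

theorem smul_mem_moved {x : G} {z : Ω} : x • z ∈ (moved x : Finset Ω) ↔ z ∈ (moved x : Finset Ω) := by
  simp only [mem_moved]
  exact not_congr ⟨fun h => smul_left_cancel x h, fun h => by rw [h, h]⟩

theorem inv_smul_mem_moved {x : G} {z : Ω} : x⁻¹ • z ∈ (moved x : Finset Ω) ↔ z ∈ (moved x : Finset Ω) := by
  conv_rhs => rw [← smul_inv_smul x z]
  exact smul_mem_moved.symm

set_option maxHeartbeats 1000000 in
/-- The averaged inequality. -/
theorem average {t : ℕ} (hjt : JT G Ω t) {x : G} {m : ℕ} (hm : (moved x : Finset Ω).card = m)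
    (hmin : ∀ g : G, (∃ z : Ω, g • z ≠ z) → m ≤ (moved g : Finset Ω).card)
    {a : Ω} (ha : a ∈ (moved x : Finset Ω)) {Q : Finset Ω} (hQ : Q ⊆ (moved x : Finset Ω))
    (haQ : a ∉ Q) (hbQ : x • a ∈ Q) (ht : Q.card + 3 ≤ t) (hfree : Q.card + 3 ≤ m)
    (hout : Q.card + m ≤ Fintype.card Ω) :
    let n : ℤ := Fintype.card Ω
    let s : ℤ := Q.card + 1
    let β : ℤ := ((moved x : Finset Ω).filter fun u => u ≠ a ∧ u ∉ Q ∧ x • u ∈ Q).card
    let γ : ℤ := ((moved x : Finset Ω).filter fun u => u ≠ a ∧ u ∉ Q ∧ x • u ≠ a ∧ x • u ∉ Q).card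
    (m : ℤ) * ((n - s) * (n - s - 1)) ≤
      ((n - s) * (n - s - 1) + (m - 1) * (m - s) * (n - s - 1)) +
      ((n - m) * (n - s - 1) + (m - 2) * (n - m) * (m - s)) +
      ((n - s) * (n - s - 1) + β * (m - 1) * (n - s - 1) + γ * (m - 1) * (n - m - (s - 1))) := by
  classical
  intro n s β γ
  have : Fintype G := Fintype.ofFinite G
  set X := (moved x : Finset Ω) with hX
  obtain ⟨O, hOX, hO⟩ := exists_subset_card_eq (s := Xᶜ) (n := Q.card) (by rw [card_compl, hm]; omega)
  let eQ := Finset.equivOfCardEq hO.symm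
  let o : Ω → Ω := fun q => if h : q ∈ Q then (eQ ⟨q, h⟩ : Ω) else q
  have ho : ∀ q ∈ Q, o q ∈ O := fun q hq => by simp only [o, dif_pos hq]; exact (eQ _).2
  have hoX : ∀ q ∈ Q, o q ∉ X := fun q hq => mem_compl.1 (hOX (ho q hq))
  have hoinj : ∀ p ∈ Q, ∀ q ∈ Q, o p = o q → p = q := fun p hp q hq e => by
    simp only [o, dif_pos hp, dif_pos hq] at e
    exact congrArg Subtype.val (eQ.injective (Subtype.ext e))
  set Src := X \ insert a Q with hSrc
  set Sl := (insert a O)ᶜ with hSl
  have haO : a ∉ O := fun h => mem_compl.1 (hOX h) ha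
  have hSlc : (Sl.card : ℤ) = n - s := by
    rw [hSl, card_compl, card_insert_of_notMem haO, hO, Nat.cast_sub (by omega)]
    push_cast
    rfl
  have hSrcc : (Src.card : ℤ) = m - s := by
    rw [hSrc, card_sdiff_of_subset (insert_subset ha hQ), card_insert_of_notMem haQ, hm,
      Nat.cast_sub (by omega)]
    push_cast
    rfl
  obtain ⟨S, hS⟩ : ∃ S : Finset G, S = univ.filter fun g => g • a = a ∧ ∀ q ∈ Q, g • q = o q := ⟨_, rfl⟩
  have hmS : ∀ {g}, g ∈ S ↔ g • a = a ∧ ∀ q ∈ Q, g • q = o q := by simp [hS]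
  have hfreeSl : ∀ g ∈ S, ∀ u ∈ Src, g • u ∈ Sl := by
    intro g hg u hu
    obtain ⟨-, hu'⟩ := mem_sdiff.1 hu
    rw [mem_insert, not_or] at hu'
    obtain ⟨hga, hgQ⟩ := hmS.1 hg
    rw [hSl, mem_compl, mem_insert, not_or]
    refine ⟨fun e => hu'.1 (smul_left_cancel g (e.trans hga.symm)), fun h => ?_⟩
    obtain ⟨q, e⟩ : ∃ q : ↥Q, eQ q = ⟨g • u, h⟩ := ⟨eQ.symm ⟨g • u, h⟩, eQ.apply_symm_apply _⟩
    refine hu'.2 ?_
    have : g • (q : Ω) = g • u := by
      rw [hgQ _ q.2]
      simp only [o, dif_pos q.2]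
      exact congrArg Subtype.val e
    exact smul_left_cancel g this ▸ q.2
  -- all prescriptions at two more points are equally frequent
  obtain ⟨R₀, hR₀⟩ : ∃ R : Finset Ω, R.card = Q.card + 3 := by
    obtain ⟨R, -, hR⟩ := exists_subset_card_eq (s := X) (n := Q.card + 3) (by omega)
    exact ⟨R, hR⟩
  set c : ℤ := (Nat.card (pst G R₀) : ℤ) with hc
  have hc0 : 0 < c := by rw [hc]; exact_mod_cast Nat.card_pos
  have two : ∀ u ∈ Src, ∀ v ∈ Src, u ≠ v → ∀ z ∈ Sl, ∀ w ∈ Sl, z ≠ w →
      ((S.filter fun g => (g • u, g • v) = (z, w)).card : ℤ) = c := by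
    intro u hu v hv huv z hz w hw hzw
    simp only [hSrc, mem_sdiff, mem_insert, not_or] at hu hv
    simp only [hSl, mem_compl, mem_insert, not_or] at hz hw
    set R := insert u (insert v (insert a Q)) with hR
    have hRc : R.card = Q.card + 3 := by
      rw [hR, card_insert_of_notMem (by simp [huv, hu.2.1, hu.2.2]),
        card_insert_of_notMem (by simp [hv.2.1, hv.2.2]), card_insert_of_notMem haQ]
    let f : ↥R → Ω := fun r => if (r : Ω) = u then z else if (r : Ω) = v then w
      else if (r : Ω) = a then a else o r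
    have hmem : ∀ r : ↥R, (r : Ω) = u ∨ (r : Ω) = v ∨ (r : Ω) = a ∨
        ((r : Ω) ≠ u ∧ (r : Ω) ≠ v ∧ (r : Ω) ≠ a ∧ (r : Ω) ∈ Q) := by
      intro r
      have h : (r : Ω) ∈ insert u (insert v (insert a Q)) := r.2
      simp only [mem_insert] at h
      by_cases h1 : (r : Ω) = u <;> by_cases h2 : (r : Ω) = v <;> by_cases h3 : (r : Ω) = a <;> tauto
    have fu : ∀ r : ↥R, (r : Ω) = u → f r = z := fun r h => by simp [f, h]
    have fv : ∀ r : ↥R, (r : Ω) = v → f r = w := fun r h => by simp [f, h, Ne.symm huv]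
    have fa : ∀ r : ↥R, (r : Ω) = a → f r = a := fun r h => by simp [f, h, Ne.symm hu.2.1, Ne.symm hv.2.1]
    have fq : ∀ r : ↥R, (r : Ω) ≠ u → (r : Ω) ≠ v → (r : Ω) ≠ a → f r = o r := fun r h1 h2 h3 => by
      simp [f, h1, h2, h3]
    have hf : Function.Injective f := by
      intro p q e
      apply Subtype.ext
      rcases hmem p with h | h | h | ⟨p1, p2, p3, p4⟩ <;>
        rcases hmem q with h' | h' | h' | ⟨q1, q2, q3, q4⟩
      · exact h.trans h'.symm
      · rw [fu p h, fv q h'] at e; exact absurd e hzw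
      · rw [fu p h, fa q h'] at e; exact absurd e hz.1
      · rw [fu p h, fq q q1 q2 q3] at e; exact absurd (e ▸ ho _ q4) hz.2
      · rw [fv p h, fu q h'] at e; exact absurd e.symm hzw
      · exact h.trans h'.symm
      · rw [fv p h, fa q h'] at e; exact absurd e hw.1
      · rw [fv p h, fq q q1 q2 q3] at e; exact absurd (e ▸ ho _ q4) hw.2
      · rw [fa p h, fu q h'] at e; exact absurd e.symm hz.1
      · rw [fa p h, fv q h'] at e; exact absurd e.symm hw.1
      · exact h.trans h'.symm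
      · rw [fa p h, fq q q1 q2 q3] at e; exact absurd (e ▸ ho _ q4) haO
      · rw [fu q h', fq p p1 p2 p3] at e; exact absurd (e.symm ▸ ho _ p4) hz.2
      · rw [fv q h', fq p p1 p2 p3] at e; exact absurd (e.symm ▸ ho _ p4) hw.2
      · rw [fa q h', fq p p1 p2 p3] at e; exact absurd (e.symm ▸ ho _ p4) haO
      · rw [fq p p1 p2 p3, fq q q1 q2 q3] at e; exact hoinj _ p4 _ q4 e
    obtain ⟨g₀, hg₀⟩ := hjt R f (by omega) hf
    have hchar : ∀ g : G, (g ∈ S ∧ g • u = z ∧ g • v = w) ↔ g₀⁻¹ * g ∈ pst G R := by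
      intro g
      have key : ∀ r : ↥R, ((g₀⁻¹ * g) • (r : Ω) = r ↔ g • (r : Ω) = f r) := fun r => by
        rw [mul_smul, inv_smul_eq_iff, hg₀ r]
      constructor
      · rintro ⟨hg, hgu, hgv⟩
        refine mem_pst.2 fun r hr => (key ⟨r, hr⟩).2 ?_
        rcases hmem ⟨r, hr⟩ with h | h | h | ⟨h1, h2, h3, h4⟩
        · rw [fu _ h, h]; exact hgu
        · rw [fv _ h, h]; exact hgv
        · rw [fa _ h, h]; exact (hmS.1 hg).1
        · rw [fq _ h1 h2 h3]; exact (hmS.1 hg).2 _ h4
      · intro h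
        rw [mem_pst] at h
        have k : ∀ r (hr : r ∈ R), g • r = f ⟨r, hr⟩ := fun r hr => (key ⟨r, hr⟩).1 (h r hr)
        refine ⟨hmS.2 ⟨?_, fun q hq => ?_⟩, ?_, ?_⟩
        · rw [k a (by simp [hR]), fa _ rfl]
        · rw [k q (by simp [hR, hq]), fq]
          · exact fun e => hu.2.2 ((show q = u from e) ▸ hq)
          · exact fun e => hv.2.2 ((show q = v from e) ▸ hq)
          · exact fun e => haQ ((show q = a from e) ▸ hq)
        · rw [k u (by simp [hR]), fu _ rfl]
        · rw [k v (by simp [hR]), fv _ rfl]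
    rw [hc, ← card_pst_eq hjt (R := R₀) (R' := R) (by omega) (by omega)]
    congr 1
    have h1 : (univ.filter fun k : G => k ∈ pst G R).card = Nat.card (pst G R) := by
      rw [Nat.card_eq_fintype_card]
      exact (Fintype.card_subtype _).symm
    rw [← h1]
    refine card_nbij' (fun g => g₀⁻¹ * g) (fun k => g₀ * k) (fun g hg => ?_) (fun k hk => ?_)
      (fun g _ => mul_inv_cancel_left g₀ g) (fun k _ => inv_mul_cancel_left g₀ k)
    · simp only [Finset.coe_filter, Set.mem_ofPred_eq, Prod.mk.injEq] at hg ⊢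
      exact ⟨mem_univ _, (hchar g).1 hg⟩
    · simp only [Finset.coe_filter, Set.mem_ofPred_eq, Prod.mk.injEq] at hk ⊢
      exact (hchar _).2 (by rw [inv_mul_cancel_left]; exact hk.2)
  have hpairs : ∀ u ∈ Src, ∀ v ∈ Src, u ≠ v → ∀ P : Finset (Ω × Ω),
      (∀ p ∈ P, p.1 ∈ Sl ∧ p.2 ∈ Sl ∧ p.1 ≠ p.2) →
      ((S.filter fun g => (g • u, g • v) ∈ P).card : ℤ) = P.card * c := by
    intro u hu v hv huv P hP
    have e := card_eq_sum_card_fiberwise (s := S.filter fun g => (g • u, g • v) ∈ P)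
      (f := fun g => (g • u, g • v)) (t := P) (fun g hg => (mem_filter.1 hg).2)
    rw [e, Nat.cast_sum, sum_congr rfl (g := fun _ => c) fun p hp => ?_, sum_const, nsmul_eq_mul]
    obtain ⟨h1, h2, h3⟩ := hP p hp
    rw [← two u hu v hv huv p.1 h1 p.2 h2 h3, filter_filter]
    congr 2
    ext g
    simp only [mem_filter]
    exact ⟨fun h => ⟨h.1, h.2.2⟩, fun h => ⟨h.1, by rw [show (g • u, g • v) = p from h.2]; exact hp, h.2⟩⟩
  obtain ⟨u₀, hu₀, v₀, hv₀, huv₀⟩ : ∃ u ∈ Src, ∃ v ∈ Src, u ≠ v := by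
    refine one_lt_card.1 ?_
    rw [hSrc, card_sdiff_of_subset (insert_subset ha hQ), card_insert_of_notMem haQ, hm]
    omega
  have hone : ∀ u ∈ Src, ∀ P ⊆ Sl,
      ((S.filter fun g => g • u ∈ P).card : ℤ) = P.card * (n - s - 1) * c := by
    intro u hu P hP
    obtain ⟨v, hv, huv⟩ : ∃ v ∈ Src, u ≠ v := by
      by_cases h : u = u₀
      · exact ⟨v₀, hv₀, h ▸ huv₀⟩
      · exact ⟨u₀, hu₀, h⟩
    have e1 : S.filter (fun g => g • u ∈ P) =
        S.filter (fun g => (g • u, g • v) ∈ (P ×ˢ Sl).filter fun p => p.1 ≠ p.2) := by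
      refine filter_congr fun g hg => ?_
      simp only [mem_filter, mem_product]
      exact ⟨fun h => ⟨⟨h, hfreeSl g hg v hv⟩, fun e => huv (smul_left_cancel g e)⟩, fun h => h.1.1⟩
    rw [e1, hpairs u hu v hv huv _ (fun p hp => by
      obtain ⟨h12, h3⟩ := mem_filter.1 hp
      obtain ⟨h1, h2⟩ := mem_product.1 h12
      exact ⟨hP h1, h2, h3⟩)]
    have e2 : (((P ×ˢ Sl).filter fun p => p.1 ≠ p.2).card : ℤ) = P.card * (n - s - 1) := by
      have e3 : (P ×ˢ Sl).filter (fun p => p.1 ≠ p.2) = (P ×ˢ Sl) \ P.image (fun z => (z, z)) := by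
        ext p
        simp only [mem_filter, mem_sdiff, mem_product, mem_image]
        exact ⟨fun h => ⟨h.1, fun ⟨z, _, e⟩ => h.2 (e ▸ rfl)⟩,
          fun h => ⟨h.1, fun e => h.2 ⟨p.1, h.1.1, Prod.ext rfl e⟩⟩⟩
      rw [e3, card_sdiff_of_subset (fun p hp => by
          obtain ⟨z, hz, rfl⟩ := mem_image.1 hp
          exact mem_product.2 ⟨hz, hP hz⟩),
        card_image_of_injective _ (fun z z' e => congrArg Prod.fst e), card_product,
        Nat.cast_sub (Nat.le_mul_of_pos_right _ (by omega)), Nat.cast_mul, hSlc]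
      ring
    rw [e2]
  have hScard : (S.card : ℤ) = (n - s) * (n - s - 1) * c := by
    have h := hone u₀ hu₀ Sl Subset.rfl
    rw [filter_true_of_mem fun g hg => hfreeSl g hg u₀ hu₀, hSlc] at h
    exact h
  have hXa : (X.erase a).card + 1 = m := by rw [card_erase_add_one ha, hm]
  have hXSl : X.erase a ⊆ Sl := fun z hz => by
    obtain ⟨hza, hzX⟩ := mem_erase.1 hz
    rw [hSl, mem_compl, mem_insert, not_or]
    exact ⟨hza, fun h => mem_compl.1 (hOX h) hzX⟩
  -- the three counts
  have hin : ∀ u ∈ Src, ((S.filter fun g => g • u ∈ X).card : ℤ) = (m - 1) * (n - s - 1) * c := by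
    intro u hu
    rw [show ((m : ℤ) - 1) = ((X.erase a).card : ℤ) by omega, ← hone u hu _ hXSl]
    congr 2
    refine filter_congr fun g hg => ?_
    rw [mem_erase]
    exact ⟨fun h => ⟨fun e => by
      have := hfreeSl g hg u hu
      rw [hSl, mem_compl] at this
      exact this (e ▸ mem_insert_self a O), h⟩, fun h => h.2⟩
  have hQin : ∀ q ∈ Q, ∀ g ∈ S, g • q ∉ X := fun q hq g hg => by
    rw [(hmS.1 hg).2 q hq]; exact hoX q hq
  have hsplit : ∀ φ : Ω → ℤ, ∑ u ∈ X, φ u = φ a + ∑ u ∈ Q, φ u + ∑ u ∈ Src, φ u := by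
    intro φ
    rw [← sum_sdiff (s₁ := insert a Q) (s₂ := X) (insert_subset ha hQ), sum_insert haQ, ← hSrc]
    ring
  set b := x • a with hb
  have hba : b ≠ a := mem_moved.1 ha
  have hbX : b ∈ X := smul_mem_moved.2 ha
  have hbSl : b ∈ Sl := hXSl (mem_erase.2 ⟨hba, hbX⟩)
  have hZ : ∑ u ∈ X, ((S.filter fun g => g • u ∈ X).card : ℤ) =
      ((n - s) * (n - s - 1) + (m - 1) * (m - s) * (n - s - 1)) * c := by
    rw [hsplit, filter_true_of_mem (fun g hg => by rw [(hmS.1 hg).1]; exact ha), hScard,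
      sum_eq_zero (s := Q) (fun q hq => by
        rw [filter_false_of_mem (hQin q hq), card_empty, Nat.cast_zero]),
      sum_congr rfl hin, sum_const, nsmul_eq_mul, hSrcc]
    ring
  have hA : ∑ u ∈ X, ((S.filter fun g => g • u ∈ X ∧ x • g • u ∉ g • X).card : ℤ) =
      ((n - m) * (n - s - 1) + (m - 2) * (n - m) * (m - s)) * c := by
    have hdiff : ∀ u ∈ X, ((S.filter fun g => g • u ∈ X ∧ x • g • u ∉ g • X).card : ℤ) =
        ((S.filter fun g => g • u ∈ X).card : ℤ) -
          ∑ v ∈ X, ((S.filter fun g => g • u ∈ X ∧ g • v = x • g • u).card : ℤ) := by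
      intro u _
      have e1 : S.filter (fun g => g • u ∈ X ∧ x • g • u ∈ g • X) =
          X.biUnion fun v => S.filter fun g => g • u ∈ X ∧ g • v = x • g • u := by
        ext g
        simp only [mem_filter, mem_biUnion]
        exact ⟨fun ⟨h1, h2, h3⟩ => by
          obtain ⟨v, hv, e⟩ := mem_smul_finset.1 h3
          exact ⟨v, hv, h1, h2, e⟩,
          fun ⟨v, hv, h1, h2, e⟩ => ⟨h1, h2, e ▸ smul_mem_smul_finset hv⟩⟩
      have e2 := card_filter_add_card_filter_not (s := S.filter fun g => g • u ∈ X)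
        (fun g => x • g • u ∈ g • X)
      rw [filter_filter, filter_filter, e1, card_biUnion (fun v _ w _ hvw => Finset.disjoint_left.2
        fun g hg hg' => hvw (smul_left_cancel g ((mem_filter.1 hg).2.2.trans (mem_filter.1 hg').2.2.symm)))] at e2
      rw [← e2]
      push_cast
      ring
    rw [sum_congr rfl hdiff, sum_sub_distrib, hZ, hsplit]
    have ea1 : ∀ v ∈ Src, ((S.filter fun g => g • a ∈ X ∧ g • v = x • g • a).card : ℤ) =
        (n - s - 1) * c := fun v hv => by
      rw [show (n - s - 1) * c = (({b} : Finset Ω).card : ℤ) * (n - s - 1) * c by simp,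
        ← hone v hv {b} (singleton_subset_iff.2 hbSl)]
      congr 2
      refine filter_congr fun g hg => ?_
      rw [(hmS.1 hg).1, mem_singleton]
      exact ⟨fun h => h.2, fun h => ⟨ha, h⟩⟩
    have ea : ∑ v ∈ X, ((S.filter fun g => g • a ∈ X ∧ g • v = x • g • a).card : ℤ) =
        (m - s) * (n - s - 1) * c := by
      rw [hsplit, filter_false_of_mem (fun g hg h => hba (by
          rw [(hmS.1 hg).1] at h; exact h.2.symm)),
        sum_eq_zero (s := Q) (fun q hq => by
          rw [filter_false_of_mem (fun g hg h => hQin q hq g hg (by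
            rw [h.2, (hmS.1 hg).1]; exact hbX)), card_empty, Nat.cast_zero]),
        sum_congr rfl ea1, sum_const, nsmul_eq_mul, hSrcc, card_empty, Nat.cast_zero]
      ring
    have eQ' : ∀ u ∈ Q, ∑ v ∈ X, ((S.filter fun g => g • u ∈ X ∧ g • v = x • g • u).card : ℤ) = 0 :=
      fun u hu => sum_eq_zero fun v _ => by
        rw [filter_false_of_mem (fun g hg h => hQin u hu g hg h.1), card_empty, Nat.cast_zero]
    have eF : ∀ u ∈ Src, ∑ v ∈ X, ((S.filter fun g => g • u ∈ X ∧ g • v = x • g • u).card : ℤ) =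
        ((n - s - 1) + (m - s - 1) * (m - 2)) * c := by
      intro u hu
      have hxa : x⁻¹ • a ∈ X := inv_smul_mem_moved.2 ha
      have hxa' : x⁻¹ • a ≠ a := fun e => hba (inv_smul_eq_iff.1 e).symm
      have e1 : ((S.filter fun g => g • u ∈ X ∧ g • a = x • g • u).card : ℤ) = (n - s - 1) * c := by
        rw [show (n - s - 1) * c = (({x⁻¹ • a} : Finset Ω).card : ℤ) * (n - s - 1) * c by simp,
          ← hone u hu {x⁻¹ • a} (singleton_subset_iff.2 (hXSl (mem_erase.2 ⟨hxa', hxa⟩)))]
        congr 2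
        refine filter_congr fun g hg => ?_
        rw [(hmS.1 hg).1, mem_singleton, eq_inv_smul_iff]
        exact ⟨fun h => h.2.symm, fun h => ⟨by rw [eq_inv_smul_iff.2 h]; exact hxa, h.symm⟩⟩
      have e2 : ∀ v ∈ Src.erase u, ((S.filter fun g => g • u ∈ X ∧ g • v = x • g • u).card : ℤ) =
          (m - 2) * c := by
        intro v hv
        obtain ⟨hvu, hv'⟩ := mem_erase.1 hv
        set P := ((X.erase a).erase (x⁻¹ • a)).image fun z => (z, x • z) with hP
        have hPc : (P.card : ℤ) = m - 2 := by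
          rw [hP, card_image_of_injective _ (fun z z' e => congrArg Prod.fst e),
            card_erase_of_mem (mem_erase.2 ⟨hxa', hxa⟩)]
          omega
        rw [← hPc, ← hpairs u hu v hv' (Ne.symm hvu) P (fun p hp => by
          obtain ⟨z, hz, rfl⟩ := mem_image.1 hp
          obtain ⟨hz1, hz2⟩ := mem_erase.1 hz
          have hzX := (mem_erase.1 hz2).2
          exact ⟨hXSl hz2, hXSl (mem_erase.2 ⟨fun e => hz1 (eq_inv_smul_iff.2 e), smul_mem_moved.2 hzX⟩),
            fun e => mem_moved.1 hzX e.symm⟩)]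
        congr 2
        refine filter_congr fun g hg => ?_
        have hne : ∀ w ∈ Src, g • w ≠ a := fun w hw e => by
          have := hfreeSl g hg w hw
          rw [hSl, mem_compl] at this
          exact this (e ▸ mem_insert_self a O)
        simp only [hP, mem_image, Prod.mk.injEq, mem_erase]
        exact ⟨fun h => ⟨g • u, ⟨fun e => hne v hv' (by rw [h.2, e, smul_inv_smul]), hne u hu, h.1⟩, rfl,
            h.2.symm⟩,
          fun ⟨z, ⟨_, _, hz⟩, e1, e2⟩ => ⟨e1 ▸ hz, by rw [← e2, e1]⟩⟩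
      rw [hsplit, sum_eq_zero (s := Q) (fun q hq => by
          rw [filter_false_of_mem (fun g hg h => hQin q hq g hg (by
            rw [h.2]; exact smul_mem_moved.2 h.1)), card_empty, Nat.cast_zero]),
        ← add_sum_erase _ _ hu, filter_false_of_mem (s := S) (p := fun g => g • u ∈ X ∧ g • u = x • g • u)
          (fun g _ h => mem_moved.1 h.1 h.2.symm),
        sum_congr rfl e2, sum_const, nsmul_eq_mul, card_erase_of_mem hu,
        Nat.cast_sub (card_pos.2 ⟨u, hu⟩), hSrcc, card_empty, Nat.cast_zero, e1]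
      push_cast
      ring
    rw [ea, sum_eq_zero eQ', sum_congr rfl eF, sum_const, nsmul_eq_mul, hSrcc]
    ring
  have hB : ∑ u ∈ X, ((S.filter fun g => g • u ∈ X ∧ g • x • u ∉ X).card : ℤ) =
      ((n - s) * (n - s - 1) + β * (m - 1) * (n - s - 1) + γ * (m - 1) * (n - m - (s - 1))) * c := by
    have hout' : ((Sl \ X.erase a).card : ℤ) = n - m - (s - 1) := by
      rw [card_sdiff_of_subset hXSl, Nat.cast_sub (card_le_card hXSl), hSlc]
      omega
    have key : ∀ u ∈ Src, ((S.filter fun g => g • u ∈ X ∧ g • x • u ∉ X).card : ℤ) =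
        (if x • u ∈ Q then (m - 1) * (n - s - 1) * c else 0) +
        (if x • u ≠ a ∧ x • u ∉ Q then (m - 1) * (n - m - (s - 1)) * c else 0) := by
      intro u hu
      have huX := (mem_sdiff.1 hu).1
      by_cases h1 : x • u ∈ Q
      · rw [if_pos h1, if_neg (fun h => h.2 h1), add_zero, ← hin u hu]
        congr 2
        exact filter_congr fun g hg => ⟨fun h => h.1, fun h => ⟨h, hQin _ h1 g hg⟩⟩
      rw [if_neg h1, zero_add]
      by_cases h2 : x • u = a
      · rw [if_neg (fun h => h.1 h2), filter_false_of_mem (fun g hg h => h.2 (by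
          rw [h2, (hmS.1 hg).1]; exact ha)), card_empty, Nat.cast_zero]
      rw [if_pos ⟨h2, h1⟩]
      have hv : x • u ∈ Src := by
        rw [hSrc, mem_sdiff, mem_insert, not_or]
        exact ⟨smul_mem_moved.2 huX, h2, h1⟩
      rw [show ((m : ℤ) - 1) * (n - m - (s - 1)) = (((X.erase a) ×ˢ (Sl \ X.erase a)).card : ℤ) by
          rw [card_product, Nat.cast_mul, hout']; congr 1; omega,
        ← hpairs u hu (x • u) hv (fun e => mem_moved.1 huX e.symm) _ (fun p hp => by
          obtain ⟨hp1, hp2⟩ := mem_product.1 hp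
          exact ⟨hXSl hp1, (mem_sdiff.1 hp2).1, fun e => (mem_sdiff.1 hp2).2 (e ▸ hp1)⟩)]
      congr 2
      refine filter_congr fun g hg => ?_
      have hne : ∀ w ∈ Src, g • w ≠ a := fun w hw e => by
        have := hfreeSl g hg w hw
        rw [hSl, mem_compl] at this
        exact this (e ▸ mem_insert_self a O)
      simp only [mem_product, mem_sdiff, mem_erase]
      exact ⟨fun h => ⟨⟨hne u hu, h.1⟩, hfreeSl g hg _ hv, fun h' => h.2 h'.2⟩,
        fun h => ⟨h.1.2, fun h' => h.2.2 ⟨hne _ hv, h'⟩⟩⟩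
    rw [hsplit, filter_true_of_mem (fun g hg => ⟨by rw [(hmS.1 hg).1]; exact ha, hQin b hbQ g hg⟩), hScard,
      sum_eq_zero (s := Q) (fun q hq => by
        rw [filter_false_of_mem (fun g hg h => hQin q hq g hg h.1), card_empty, Nat.cast_zero]),
      sum_congr rfl key, sum_add_distrib, ← sum_filter, ← sum_filter, sum_const, sum_const, nsmul_eq_mul,
      nsmul_eq_mul]
    have e1 : Src.filter (fun u => x • u ∈ Q) = X.filter fun u => u ≠ a ∧ u ∉ Q ∧ x • u ∈ Q := by
      ext u; simp only [hSrc, mem_filter, mem_sdiff, mem_insert, not_or]; tauto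
    have e2 : Src.filter (fun u => x • u ≠ a ∧ x • u ∉ Q) =
        X.filter fun u => u ≠ a ∧ u ∉ Q ∧ x • u ≠ a ∧ x • u ∉ Q := by
      ext u; simp only [hSrc, mem_filter, mem_sdiff, mem_insert, not_or]; tauto
    rw [e1, e2]
    ring
  -- the commutator of `x` and `g x g⁻¹`
  have hper : ∀ g ∈ S, (m : ℤ) ≤ ((X.filter fun u => g • u ∈ X).card : ℤ) +
      ((X.filter fun u => g • u ∈ X ∧ x • g • u ∉ g • X).card : ℤ) +
      ((X.filter fun u => g • u ∈ X ∧ g • x • u ∉ X).card : ℤ) := by
    intro g hg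
    set y := g * x * g⁻¹ with hy
    have hyfix : ∀ z : Ω, z ∉ g • X → y • z = z ∧ y⁻¹ • z = z := fun z hz => by
      rw [← inv_smul_mem_iff, hX, mem_moved, not_not] at hz
      have : y • z = z := by rw [hy, mul_smul, mul_smul, hz, smul_inv_smul]
      exact ⟨this, inv_smul_eq_iff.2 this.symm⟩
    have hxfix : ∀ z : Ω, z ∉ X → x • z = z ∧ x⁻¹ • z = z := fun z hz => by
      rw [hX, mem_moved, not_not] at hz
      exact ⟨hz, inv_smul_eq_iff.2 hz.symm⟩
    have hne : ∃ z : Ω, (x * y * x⁻¹ * y⁻¹) • z ≠ z := by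
      by_contra h
      push Not at h
      have h1 := h (y • x • a)
      simp only [mul_smul, inv_smul_smul] at h1
      -- `x (y a) = y (x a)`
      have hya : y • a = o b := by
        rw [hy, mul_smul, mul_smul, inv_smul_eq_iff.2 (hmS.1 hg).1.symm]
        exact (hmS.1 hg).2 b hbQ
      rw [hya, (hxfix _ (hoX b hbQ)).1, ← hya] at h1
      exact hba (smul_left_cancel y h1).symm
    refine le_trans (Nat.cast_le.2 (hmin _ hne)) ?_
    rw [← Nat.cast_add, ← Nat.cast_add, Nat.cast_le]
    set Z₁ := X.filter fun u => g • u ∈ X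
    set A₁ := X.filter fun u => g • u ∈ X ∧ x • g • u ∉ g • X
    set B₁ := X.filter fun u => g • u ∈ X ∧ g • x • u ∉ X
    refine le_trans (card_le_card (t := g • Z₁ ∪ x • g • A₁ ∪ g • x • B₁) ?_) (le_trans (card_union_le _ _)
      (le_trans (Nat.add_le_add_right (card_union_le _ _) _) (le_of_eq (by simp only [card_smul_finset]))))
    intro z hz
    rw [mem_moved] at hz
    by_cases hzX : z ∈ X
    · by_cases hzY : z ∈ g • X
      · obtain ⟨u, hu, rfl⟩ := mem_smul_finset.1 hzY
        exact mem_union_left _ (mem_union_left _ (smul_mem_smul_finset (mem_filter.2 ⟨hu, hzX⟩)))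
      refine mem_union_left _ (mem_union_right _ ?_)
      by_cases hw : x⁻¹ • z ∈ g • X
      · obtain ⟨u, hu, e⟩ := mem_smul_finset.1 hw
        rw [← smul_inv_smul x z, ← e]
        refine smul_mem_smul_finset (smul_mem_smul_finset (mem_filter.2 ⟨hu, ?_, ?_⟩))
        · rw [e]; exact inv_smul_mem_moved.2 hzX
        · rw [e, smul_inv_smul]; exact hzY
      · exfalso
        apply hz
        rw [mul_smul, mul_smul, mul_smul, (hyfix z hzY).2, (hyfix _ hw).1, smul_inv_smul]
    · refine mem_union_right _ ?_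
      by_cases hzY : z ∈ g • X
      · by_cases hv : y⁻¹ • z ∈ X
        · obtain ⟨u, hu, e⟩ := mem_smul_finset.1 hzY
          rw [← e, ← smul_inv_smul x u]
          refine smul_mem_smul_finset (smul_mem_smul_finset (mem_filter.2
            ⟨inv_smul_mem_moved.2 hu, ?_, ?_⟩))
          · rw [← e, hy] at hv
            simpa [mul_smul, mul_assoc] using hv
          · rw [smul_inv_smul, e]; exact hzX
        · exfalso
          apply hz
          rw [mul_smul, mul_smul, mul_smul, (hxfix _ hv).2, smul_inv_smul, (hxfix z hzX).1]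
      · exfalso
        apply hz
        rw [mul_smul, mul_smul, mul_smul, (hyfix z hzY).2, (hxfix z hzX).2, (hyfix z hzY).1,
          (hxfix z hzX).1]
  have htot := sum_le_sum hper
  rw [sum_const, nsmul_eq_mul, hScard, sum_add_distrib, sum_add_distrib] at htot
  simp only [card_filter, Nat.cast_sum, Nat.cast_ite, Nat.cast_one, Nat.cast_zero] at htot hZ hA hB
  have sw : ∀ φ : G → Ω → ℤ, ∑ g ∈ S, ∑ u ∈ X, φ g u = ∑ u ∈ X, ∑ g ∈ S, φ g u := fun φ => sum_comm
  rw [sw, sw, sw, hZ, hA, hB, ← add_mul, ← add_mul] at htot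
  refine le_of_mul_le_mul_right ?_ hc0
  linarith

end CfsgLib.ProFix

namespace CfsgLib.ProFix

variable {G Ω : Type} [Group G] [Finite G] [MulAction G Ω] [Fintype Ω] [DecidableEq Ω]

theorem fix_of_pow {x : G} {p k : ℕ} (hx : x ^ p = 1) (hk : k.Coprime p) {z : Ω} (h : x ^ k • z = z) :
    x • z = z := by
  have h1 : x ∈ Subgroup.zpowers (x ^ k) := by
    obtain ⟨u, hu⟩ := exists_pow_eq_self_of_coprime (x := x) (n := k)
      (hk.coprime_dvd_right (orderOf_dvd_of_pow_eq_one hx))
    exact ⟨u, by simpa using hu⟩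
  obtain ⟨u, hu⟩ := h1
  rw [← hu]
  exact mem_stabilizer_iff.1 (Subgroup.zpow_mem _ (mem_stabilizer_iff.2 h) u)

theorem num_false {n m s β γ b g m₀ e₀ : ℤ}
    (h : m * ((n - s) * (n - s - 1)) ≤
      ((n - s) * (n - s - 1) + (m - 1) * (m - s) * (n - s - 1)) +
      ((n - m) * (n - s - 1) + (m - 2) * (n - m) * (m - s)) +
      ((n - s) * (n - s - 1) + β * (m - 1) * (n - s - 1) + γ * (m - 1) * (n - m - (s - 1))))
    (hβ : β ≤ b) (hγ : γ ≤ m + g) (hm : m₀ ≤ m) (hn : 2 * m + e₀ ≤ n) (hs : s + 1 ≤ m) (he : 0 ≤ e₀) (hs1 : 1 ≤ s)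
    (hpos : ∀ M E : ℤ, 0 ≤ M → 0 ≤ E →
      ((2 * (M + m₀) + (E + e₀) - s) * (2 * (M + m₀) + (E + e₀) - s - 1) +
          (M + m₀ - 1) * (M + m₀ - s) * (2 * (M + m₀) + (E + e₀) - s - 1)) +
        ((2 * (M + m₀) + (E + e₀) - (M + m₀)) * (2 * (M + m₀) + (E + e₀) - s - 1) +
          (M + m₀ - 2) * (2 * (M + m₀) + (E + e₀) - (M + m₀)) * (M + m₀ - s)) +
        ((2 * (M + m₀) + (E + e₀) - s) * (2 * (M + m₀) + (E + e₀) - s - 1) +
          b * (M + m₀ - 1) * (2 * (M + m₀) + (E + e₀) - s - 1) +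
          (M + m₀ + g) * (M + m₀ - 1) * (2 * (M + m₀) + (E + e₀) - (M + m₀) - (s - 1))) <
      (M + m₀) * ((2 * (M + m₀) + (E + e₀) - s) * (2 * (M + m₀) + (E + e₀) - s - 1))) : False := by
  have h1 : β * (m - 1) * (n - s - 1) ≤ b * (m - 1) * (n - s - 1) :=
    mul_le_mul_of_nonneg_right (mul_le_mul_of_nonneg_right hβ (by omega)) (by omega)
  have h2 : γ * (m - 1) * (n - m - (s - 1)) ≤ (m + g) * (m - 1) * (n - m - (s - 1)) :=
    mul_le_mul_of_nonneg_right (mul_le_mul_of_nonneg_right hγ (by omega)) (by omega)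
  obtain ⟨M, hM, rfl⟩ : ∃ M, 0 ≤ M ∧ m = M + m₀ := ⟨m - m₀, by omega, by ring⟩
  obtain ⟨E, hE, rfl⟩ : ∃ E, 0 ≤ E ∧ n = 2 * (M + m₀) + (E + e₀) :=
    ⟨n - 2 * (M + m₀) - e₀, by omega, by ring⟩
  linarith [hpos M E hM hE]

/-- In a five-fold transitive group an element of prime order of minimal degree at most `n / 2` has
order two or three, and moves half of the points; six-fold transitivity excludes it. -/
theorem small_degree {x : G} {p m : ℕ} (hp : p.Prime) (hx : x ^ p = 1)
    (hjt : JT G Ω 5) (hm : (moved x : Finset Ω).card = m) (hm6 : 6 ≤ m) (hmn : 2 * m ≤ Fintype.card Ω)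
    (hmin : ∀ g : G, (∃ z : Ω, g • z ≠ z) → m ≤ (moved g : Finset Ω).card) :
    (p = 2 ∨ p = 3) ∧ Fintype.card Ω ≤ 2 * m + 1 ∧ ¬ JT G Ω 6 := by
  obtain ⟨a, ha⟩ : (moved x : Finset Ω).Nonempty := card_pos.1 (by omega)
  have hcop : ∀ k : ℕ, 0 < k → k < p → k.Coprime p := fun k h0 hk =>
    ((hp.coprime_iff_not_dvd).2 fun h => by have := Nat.le_of_dvd h0 h; omega).symm
  have hne : ∀ z ∈ (moved x : Finset Ω), ∀ k : ℕ, 0 < k → k < p → x ^ k • z ≠ z :=
    fun z hz k h0 hk e => mem_moved.1 hz (fix_of_pow hx (hcop k h0 hk) e)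
  set b := x • a with hb
  have hbX : b ∈ (moved x : Finset Ω) := smul_mem_moved.2 ha
  have hba : b ≠ a := mem_moved.1 ha
  have hia : x⁻¹ • a ∈ (moved x : Finset Ω) := inv_smul_mem_moved.2 ha
  have hia' : x⁻¹ • a ≠ a := fun e => hba (inv_smul_eq_iff.1 e).symm
  have hnz : (2 * m : ℤ) ≤ Fintype.card Ω := by exact_mod_cast hmn
  have hm6z : (6 : ℤ) ≤ m := by exact_mod_cast hm6
  have bound : ∀ (P : Finset Ω) (q : Ω → Prop) [DecidablePred q], P ⊆ (moved x : Finset Ω) →
      (∀ u ∈ P, ¬ q u) → (((moved x : Finset Ω).filter q).card : ℤ) ≤ (m : ℤ) - P.card := by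
    intro P q _ hP hq
    have h1 : (moved x : Finset Ω).filter q ⊆ moved x \ P := fun u hu =>
      mem_sdiff.2 ⟨(mem_filter.1 hu).1, fun h => hq u h (mem_filter.1 hu).2⟩
    have h2 := card_le_card h1
    rw [card_sdiff_of_subset hP, hm] at h2
    have := card_le_card hP
    omega
  by_cases hp5 : 5 ≤ p
  · exfalso
    set c := x • b with hc
    have h2 : x ^ 2 • a = c := by rw [pow_two, mul_smul]
    have hca : c ≠ a := h2 ▸ hne a ha 2 (by omega) (by omega)
    have hcb : c ≠ b := mem_moved.1 hbX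
    have hxc : x • c ≠ a := fun e => hne a ha 3 (by omega) (by omega) (by
      rw [show (3 : ℕ) = 2 + 1 by rfl, pow_succ', mul_smul, h2, e])
    have h := average hjt hm hmin (a := a) ha (Q := {b, c})
      (by simp [insert_subset_iff, hbX, hc, smul_mem_moved]) (by simp [Ne.symm hba, Ne.symm hca])
      (by simp [hb]) (by rw [card_pair (Ne.symm hcb)]) (by rw [card_pair (Ne.symm hcb)]; omega)
      (by rw [card_pair (Ne.symm hcb)]; omega)
    simp only [card_pair (Ne.symm hcb), Nat.cast_ofNat] at h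
    have hβ := bound (moved x) (fun u => u ≠ a ∧ u ∉ ({b, c} : Finset Ω) ∧ x • u ∈ ({b, c} : Finset Ω))
      Subset.rfl (fun u _ ⟨h1, h2, h3⟩ => by
        simp only [mem_insert, mem_singleton, hc, hb] at h2 h3
        rcases h3 with h3 | h3
        · exact h1 (smul_left_cancel x h3)
        · exact h2 (Or.inl (smul_left_cancel x h3)))
    have hγ := bound {a, b, c, x⁻¹ • a} (fun u => u ≠ a ∧ u ∉ ({b, c} : Finset Ω) ∧ x • u ≠ a ∧
        x • u ∉ ({b, c} : Finset Ω))
      (by simp [insert_subset_iff, ha, hbX, hia, hc, smul_mem_moved])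
      (fun u hu ⟨h1, h2, h3, _⟩ => by
        simp only [mem_insert, mem_singleton] at hu h2
        rcases hu with rfl | rfl | rfl | rfl
        · exact h1 rfl
        · exact h2 (Or.inl rfl)
        · exact h2 (Or.inr rfl)
        · exact h3 (smul_inv_smul x a))
    have hcard : ({a, b, c, x⁻¹ • a} : Finset Ω).card = 4 := by
      rw [card_insert_of_notMem (by simp [Ne.symm hba, Ne.symm hca, Ne.symm hia']),
        card_insert_of_notMem (by
          simp only [mem_insert, mem_singleton, not_or]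
          refine ⟨Ne.symm hcb, fun e => hca ?_⟩
          rw [hc, e, smul_inv_smul]),
        card_pair (fun e => hxc (by rw [e, smul_inv_smul]))]
    rw [hm, sub_self] at hβ
    rw [hcard] at hγ
    push_cast at hγ
    exact num_false (b := 0) (g := -4) (m₀ := 5) (e₀ := 0) h (by omega) (by omega) (by omega)
      (by omega) (by omega) (by omega) (by omega) (fun M E hM hE => by nlinarith [mul_nonneg hM hE, mul_nonneg (mul_nonneg hM hM) hE, mul_nonneg (mul_nonneg hM hE) hE, mul_nonneg hM hM, mul_nonneg hE hE])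
  have hp23 : p = 2 ∨ p = 3 := by
    have := hp.two_le
    interval_cases p
    · exact Or.inl rfl
    · exact Or.inr rfl
    · exact absurd hp (by norm_num)
  obtain ⟨u₀, hu₀, hu₀'⟩ : ∃ u ∈ (moved x : Finset Ω), u ∉ ({a, b, x⁻¹ • a} : Finset Ω) := by
    refine exists_mem_notMem_of_card_lt_card (lt_of_le_of_lt card_le_three ?_)
    omega
  simp only [mem_insert, mem_singleton, not_or] at hu₀'
  obtain ⟨hua, hub, huc⟩ := hu₀'
  have hiu : x⁻¹ • u₀ ∈ (moved x : Finset Ω) := inv_smul_mem_moved.2 hu₀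
  have hiu' : x⁻¹ • u₀ ≠ u₀ := fun e => mem_moved.1 hu₀ (inv_smul_eq_iff.1 e).symm
  have hiua : x⁻¹ • u₀ ≠ a := fun e => hub (by rw [hb, ← e, smul_inv_smul])
  have hiua' : x⁻¹ • u₀ ≠ x⁻¹ • a := fun e => hua (smul_left_cancel x⁻¹ e)
  have hp3 : p = 3 → x • b = x⁻¹ • a := fun e => by
    rw [e] at hx
    rw [eq_inv_smul_iff, hb, ← mul_smul, ← mul_smul, ← pow_three', hx, one_smul]
  have hp2 : p = 2 → x⁻¹ = x := fun e => by
    rw [e, pow_two] at hx
    exact inv_eq_of_mul_eq_one_left hx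
  have hiub : p = 3 → x⁻¹ • u₀ ≠ b := fun e e' => huc (by rw [← hp3 e, ← e', smul_inv_smul])
  have hbia : p = 3 → x⁻¹ • a ≠ b := fun e e' => hne a ha 2 (by omega) (by omega) (by
    rw [pow_two, mul_smul, ← hb, ← e', smul_inv_smul])
  refine ⟨hp23, ?_, ?_⟩
  · by_contra hn
    have hn' : (2 * m + 2 : ℤ) ≤ Fintype.card Ω := by omega
    have hQ : ({b, u₀} : Finset Ω).card = 2 := card_pair (Ne.symm hub)
    have h := average hjt hm hmin (a := a) ha (Q := {b, u₀}) (by simp [insert_subset_iff, hbX, hu₀])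
      (by simp [Ne.symm hba, Ne.symm hua]) (by simp [hb]) (by omega) (by omega) (by omega)
    simp only [hQ, Nat.cast_ofNat] at h
    have hβ := bound ((moved x).erase (x⁻¹ • u₀))
      (fun u => u ≠ a ∧ u ∉ ({b, u₀} : Finset Ω) ∧ x • u ∈ ({b, u₀} : Finset Ω))
      (erase_subset _ _) (fun u hu ⟨h1, _, h3⟩ => by
        simp only [mem_insert, mem_singleton, hb] at h3
        rcases h3 with h3 | h3
        · exact h1 (smul_left_cancel x h3)
        · exact (mem_erase.1 hu).1 (eq_inv_smul_iff.2 h3))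
    rw [card_erase_of_mem hiu, hm] at hβ
    rcases hp23 with rfl | rfl
    · have hγ := bound {a, b, u₀, x⁻¹ • u₀} (fun u => u ≠ a ∧ u ∉ ({b, u₀} : Finset Ω) ∧ x • u ≠ a ∧
          x • u ∉ ({b, u₀} : Finset Ω))
        (by simp [insert_subset_iff, ha, hbX, hu₀, hiu])
        (fun u hu ⟨h1, h2, _, h4⟩ => by
          simp only [mem_insert, mem_singleton] at hu h2 h4
          rcases hu with rfl | rfl | rfl | rfl
          · exact h1 rfl
          · exact h2 (Or.inl rfl)
          · exact h2 (Or.inr rfl)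
          · exact h4 (Or.inr (smul_inv_smul x u₀)))
      have hcard : ({a, b, u₀, x⁻¹ • u₀} : Finset Ω).card = 4 := by
        rw [card_insert_of_notMem (by simp [Ne.symm hba, Ne.symm hua, Ne.symm hiua]),
          card_insert_of_notMem (by
            simp only [mem_insert, mem_singleton, not_or]
            refine ⟨Ne.symm hub, fun e => hua ?_⟩
            rw [hp2 rfl, hb] at e
            exact (smul_left_cancel x e).symm),
          card_pair (Ne.symm hiu')]
      rw [hcard] at hγ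
      push_cast at hγ hβ
      exact num_false (b := 1) (g := -4) (m₀ := 6) (e₀ := 2) h (by omega) (by omega) (by omega)
        (by omega) (by omega) (by omega) (by omega) (fun M E hM hE => by nlinarith [mul_nonneg hM hE, mul_nonneg (mul_nonneg hM hM) hE, mul_nonneg (mul_nonneg hM hE) hE, mul_nonneg hM hM, mul_nonneg hE hE])
    · have hγ := bound {a, b, u₀, x⁻¹ • a, x⁻¹ • u₀} (fun u => u ≠ a ∧ u ∉ ({b, u₀} : Finset Ω) ∧ x • u ≠ a ∧
          x • u ∉ ({b, u₀} : Finset Ω))
        (by simp [insert_subset_iff, ha, hbX, hu₀, hiu, hia])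
        (fun u hu ⟨h1, h2, h3, h4⟩ => by
          simp only [mem_insert, mem_singleton] at hu h2 h4
          rcases hu with rfl | rfl | rfl | rfl | rfl
          · exact h1 rfl
          · exact h2 (Or.inl rfl)
          · exact h2 (Or.inr rfl)
          · exact h3 (smul_inv_smul x a)
          · exact h4 (Or.inr (smul_inv_smul x u₀)))
      have hcard : ({a, b, u₀, x⁻¹ • a, x⁻¹ • u₀} : Finset Ω).card = 5 := by
        rw [card_insert_of_notMem (by simp [Ne.symm hba, Ne.symm hua, Ne.symm hiua, Ne.symm hia']),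
          card_insert_of_notMem (by simp [Ne.symm hub, Ne.symm (hiub rfl), Ne.symm (hbia rfl)]),
          card_insert_of_notMem (by simp [huc, Ne.symm hiu']),
          card_pair (Ne.symm hiua')]
      rw [hcard] at hγ
      push_cast at hγ hβ
      exact num_false (b := 1) (g := -5) (m₀ := 6) (e₀ := 2) h (by omega) (by omega) (by omega)
        (by omega) (by omega) (by omega) (by omega) (fun M E hM hE => by nlinarith [mul_nonneg hM hE, mul_nonneg (mul_nonneg hM hM) hE, mul_nonneg (mul_nonneg hM hE) hE, mul_nonneg hM hM, mul_nonneg hE hE])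
  · intro hjt6
    have hxu : x • u₀ ∈ (moved x : Finset Ω) := smul_mem_moved.2 hu₀
    have hxu' : x • u₀ ≠ u₀ := mem_moved.1 hu₀
    have hxua : x • u₀ ≠ a := fun e => huc (eq_inv_smul_iff.2 e)
    have hxub : x • u₀ ≠ b := fun e => hua (smul_left_cancel x e)
    have hQ : ({b, u₀, x • u₀} : Finset Ω).card = 3 := by
      rw [card_insert_of_notMem (by simp [Ne.symm hub, Ne.symm hxub]), card_pair (Ne.symm hxu')]
    have h := average hjt6 hm hmin (a := a) ha (Q := {b, u₀, x • u₀})
      (by simp [insert_subset_iff, hbX, hu₀, hxu])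
      (by simp [Ne.symm hba, Ne.symm hua, Ne.symm hxua]) (by simp [hb]) (by omega) (by omega) (by omega)
    simp only [hQ, Nat.cast_ofNat] at h
    have hβ := bound ((moved x).erase (x⁻¹ • u₀))
      (fun u => u ≠ a ∧ u ∉ ({b, u₀, x • u₀} : Finset Ω) ∧ x • u ∈ ({b, u₀, x • u₀} : Finset Ω))
      (erase_subset _ _) (fun u hu ⟨h1, h2, h3⟩ => by
        simp only [mem_insert, mem_singleton, hb] at h2 h3
        rcases h3 with h3 | h3 | h3
        · exact h1 (smul_left_cancel x h3)
        · exact (mem_erase.1 hu).1 (eq_inv_smul_iff.2 h3)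
        · exact h2 (Or.inr (Or.inl (smul_left_cancel x h3))))
    rw [card_erase_of_mem hiu, hm] at hβ
    rcases hp23 with rfl | rfl
    · have hβ0 := bound (moved x)
        (fun u => u ≠ a ∧ u ∉ ({b, u₀, x • u₀} : Finset Ω) ∧ x • u ∈ ({b, u₀, x • u₀} : Finset Ω))
        Subset.rfl (fun u _ ⟨h1, h2, h3⟩ => by
          simp only [mem_insert, mem_singleton, hb] at h2 h3
          rcases h3 with h3 | h3 | h3
          · exact h1 (smul_left_cancel x h3)
          · refine h2 (Or.inr (Or.inr ?_))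
            rw [← h3, ← mul_smul, ← pow_two, hx, one_smul]
          · exact h2 (Or.inr (Or.inl (smul_left_cancel x h3))))
      rw [hm, sub_self] at hβ0
      have hγ := bound {a, b, u₀, x • u₀} (fun u => u ≠ a ∧ u ∉ ({b, u₀, x • u₀} : Finset Ω) ∧ x • u ≠ a ∧
          x • u ∉ ({b, u₀, x • u₀} : Finset Ω))
        (by simp [insert_subset_iff, ha, hbX, hu₀, hxu])
        (fun u hu ⟨h1, h2, _⟩ => by
          simp only [mem_insert, mem_singleton] at hu h2
          rcases hu with rfl | rfl | rfl | rfl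
          · exact h1 rfl
          · exact h2 (Or.inl rfl)
          · exact h2 (Or.inr (Or.inl rfl))
          · exact h2 (Or.inr (Or.inr rfl)))
      have hcard : ({a, b, u₀, x • u₀} : Finset Ω).card = 4 := by
        rw [card_insert_of_notMem (by simp [Ne.symm hba, Ne.symm hua, Ne.symm hxua]), hQ]
      rw [hcard] at hγ
      push_cast at hγ hβ0
      exact num_false (b := 0) (g := -4) (m₀ := 6) (e₀ := 0) h (by omega) (by omega) (by omega)
        (by omega) (by omega) (by omega) (by omega) (fun M E hM hE => by nlinarith [mul_nonneg hM hE, mul_nonneg (mul_nonneg hM hM) hE, mul_nonneg (mul_nonneg hM hE) hE, mul_nonneg hM hM, mul_nonneg hE hE])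
    · have hγ := bound {a, b, u₀, x • u₀, x⁻¹ • a, x⁻¹ • u₀}
          (fun u => u ≠ a ∧ u ∉ ({b, u₀, x • u₀} : Finset Ω) ∧ x • u ≠ a ∧
          x • u ∉ ({b, u₀, x • u₀} : Finset Ω))
        (by simp [insert_subset_iff, ha, hbX, hu₀, hxu, hiu, hia])
        (fun u hu ⟨h1, h2, h3, h4⟩ => by
          simp only [mem_insert, mem_singleton] at hu h2 h4
          rcases hu with rfl | rfl | rfl | rfl | rfl | rfl
          · exact h1 rfl
          · exact h2 (Or.inl rfl)
          · exact h2 (Or.inr (Or.inl rfl))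
          · exact h2 (Or.inr (Or.inr rfl))
          · exact h3 (smul_inv_smul x a)
          · exact h4 (Or.inr (Or.inl (smul_inv_smul x u₀))))
      have hx2 : x • u₀ ≠ x⁻¹ • u₀ := fun e => hne u₀ hu₀ 2 (by omega) (by omega) (by
        rw [pow_two, mul_smul, e, smul_inv_smul])
      have hxia : x • u₀ ≠ x⁻¹ • a := fun e => hub (smul_left_cancel x (e.trans (hp3 rfl).symm))
      have hcard : ({a, b, u₀, x • u₀, x⁻¹ • a, x⁻¹ • u₀} : Finset Ω).card = 6 := by
        rw [card_insert_of_notMem (by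
            simp [Ne.symm hba, Ne.symm hua, Ne.symm hiua, Ne.symm hia', Ne.symm hxua]),
          card_insert_of_notMem (by simp [Ne.symm hub, Ne.symm (hiub rfl), Ne.symm (hbia rfl), Ne.symm hxub]),
          card_insert_of_notMem (by simp [huc, Ne.symm hiu', Ne.symm hxu']),
          card_insert_of_notMem (by simp [hxia, hx2]), card_pair (Ne.symm hiua')]
      rw [hcard] at hγ
      push_cast at hγ hβ
      exact num_false (b := 1) (g := -6) (m₀ := 6) (e₀ := 0) h (by omega) (by omega) (by omega)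
        (by omega) (by omega) (by omega) (by omega) (fun M E hM hE => by nlinarith [mul_nonneg hM hE, mul_nonneg (mul_nonneg hM hM) hE, mul_nonneg (mul_nonneg hM hE) hE, mul_nonneg hM hM, mul_nonneg hE hE])

end CfsgLib.ProFix
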