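import Cfsg.Agent.Lib.Perm.ProFix.Basic

/-!
# Degree `2f + 1` gives double transitivity
-/

set_option autoImplicit false

open scoped Pointwise
open Finset MulAction

namespace CfsgLib.ProFix

variable {G Ω : Type} [Group G] [MulAction G Ω] [Fintype Ω] [DecidableEq Ω] {K : Subgroup G}

theorem cl_empty [IsPretransitive G Ω] (hmov : ∃ a : Ω, ¬ Fixes K a) : cl K (∅ : Finset Ω) = ∅ := by
  ext z
  simp only [notMem_empty, iff_false]
  intro hz
  obtain ⟨a, ha⟩ := hmov
  obtain ⟨g, hg⟩ := exists_smul_eq G a z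
  have h := mem_cl.1 hz g (empty_subset _)
  rw [← inv_smul_mem_iff, ← hg, inv_smul_smul, mem_fixSet] at h
  exact ha h

theorem fixSet_nonempty_of_le (hmov : ∃ a : Ω, ¬ Fixes K a)
    (hn : Fintype.card Ω ≤ 2 * (fixSet (Ω := Ω) K).card + 1) : (fixSet (Ω := Ω) K).Nonempty := by
  rw [← card_pos]
  by_contra h
  obtain ⟨a, ha⟩ := hmov
  have h1 : Fintype.card Ω ≤ 1 := by omega
  exact ha fun k _ => Fintype.card_le_one_iff.1 h1 _ _

/-- Points are closed in degree at most `2f + 1`. -/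
theorem cl_singleton [IsPretransitive G Ω] (hsm : Small (Fintype.card Ω)) (hpro : IsPro K)
    (hmov : ∃ a : Ω, ¬ Fixes K a) (hn : Fintype.card Ω ≤ 2 * (fixSet (Ω := Ω) K).card + 1) (w : Ω) :
    cl K {w} = {w} := by
  by_contra hne
  have h2 : 2 ≤ (cl K ({w} : Finset Ω)).card := by
    by_contra h
    push Not at h
    exact hne (eq_of_subset_of_card_le (subset_cl _) (by rw [card_singleton]; omega)).symm
  have hcov : ∀ v : Ω, ∃ g : G, cl K {v} ⊆ g • fixSet (Ω := Ω) K := fun v => by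
    obtain ⟨a, ha⟩ := fixSet_nonempty_of_le hmov hn
    obtain ⟨g, rfl⟩ := exists_smul_eq G a v
    exact ⟨g, cl_subset_smul (singleton_subset_iff.2 (smul_mem_smul_finset ha))⟩
  have horb : orb G (∅ : Finset Ω) w = univ := by
    refine eq_univ_of_forall fun y => mem_orb.2 ?_
    obtain ⟨g, hg⟩ := exists_smul_eq G w y
    exact ⟨g, mem_pst.2 (by simp), hg⟩
  obtain ⟨q, hq, hd, -⟩ := defi_classes hsm hpro (A := (∅ : Finset Ω)) (empty_subset _)
    (fun v => cl K {v}) (fun h _ v => by rw [smul_cl, smul_finset_singleton]) (z := w)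
    (fun v _ => subset_cl _ (mem_singleton_self v)) (fun v _ => by simp [cl_empty hmov])
    (fun v _ u hu => by
      refine eq_of_subset_of_card_le (cl_mono (singleton_subset_iff.2 hu)) ?_
      obtain ⟨g, rfl⟩ := exists_smul_eq G v u
      rw [← smul_finset_singleton, ← smul_cl, card_smul_finset])
    (fun v _ => hcov v) (Or.inr h2)
  have hU : (orb G (∅ : Finset Ω) w).biUnion (fun v => cl K {v}) = univ :=
    eq_univ_of_forall fun y => mem_biUnion.2 ⟨y, horb ▸ mem_univ y, subset_cl _ (mem_singleton_self y)⟩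
  rw [hU, defi, univ_inter, card_univ] at hd
  have : (2 : ℤ) ≤ ((cl K ({w} : Finset Ω)).card : ℤ) := by exact_mod_cast h2
  nlinarith

theorem defi_compl_singleton [IsPretransitive G Ω] (hsm : Small (Fintype.card Ω)) (hpro : IsPro K)
    (hmov : ∃ a : Ω, ¬ Fixes K a) (hn : Fintype.card Ω ≤ 2 * (fixSet (Ω := Ω) K).card + 1) {a : Ω}
    (ha : a ∈ fixSet (Ω := Ω) K) :
    defi K ({a}ᶜ : Finset Ω) = (Fintype.card Ω : ℤ) - 2 * (fixSet (Ω := Ω) K).card + 1 := by
  have := defi_compl_cl (K := K) (singleton_subset_iff.2 ha)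
  rwa [cl_singleton hsm hpro hmov hn, card_singleton, Nat.cast_one] at this

theorem orbs_eq_one {A U : Finset Ω} (h : (orbs G A U).card ≤ 1) {x y : Ω} (hx : x ∈ U) (hy : y ∈ U) :
    ∃ h ∈ pst G A, h • x = y := by
  have e : orb G A x = orb G A y :=
    card_le_one.1 h _ (mem_image_of_mem _ hx) _ (mem_image_of_mem _ hy)
  exact mem_orb.1 (e ▸ self_mem_orb A y)

theorem compl_singleton_inv (a : Ω) : InvU (pst G ({a} : Finset Ω)) ({a}ᶜ : Finset Ω) :=
  compl_inv fun h hh z hz => by
    rw [mem_singleton] at hz ⊢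
    rw [hz]
    exact mem_pst.1 hh a (mem_singleton_self a)

theorem extremal [IsPretransitive G Ω] (hsm : Small (Fintype.card Ω)) (hpro : IsPro K)
    (hmov : ∃ a : Ω, ¬ Fixes K a) (hn : 2 * (fixSet (Ω := Ω) K).card + 1 = Fintype.card Ω) :
    ∀ a b c : Ω, b ≠ a → c ≠ a → ∃ h : G, h • a = a ∧ h • b = c := by
  have hcl := cl_singleton hsm hpro hmov hn.ge
  obtain ⟨a₀, ha₀⟩ := fixSet_nonempty_of_le hmov hn.ge
  suffices key : (orbs G ({a₀} : Finset Ω) {a₀}ᶜ).card ≤ 1 by
    intro a b c hb hc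
    obtain ⟨g, rfl⟩ := exists_smul_eq G a₀ a
    have hg : ∀ v : Ω, v ≠ g • a₀ → g⁻¹ • v ∈ ({a₀}ᶜ : Finset Ω) := fun v hv => by
      simp only [mem_compl, mem_singleton, inv_smul_eq_iff]; exact hv
    obtain ⟨h, hh, e⟩ := orbs_eq_one key (hg b hb) (hg c hc)
    refine ⟨g * h * g⁻¹, ?_, ?_⟩
    · rw [mul_smul, mul_smul, inv_smul_smul, mem_pst.1 hh a₀ (mem_singleton_self _)]
    · rw [mul_smul, mul_smul, e, smul_inv_smul]
  by_contra hcon
  set U : Finset Ω := {a₀}ᶜ with hUdef
  have hA : ({a₀} : Finset Ω) ⊆ fixSet (Ω := Ω) K := singleton_subset_iff.2 ha₀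
  have hd : Disjoint U (cl K {a₀}) := by rw [hcl]; exact disjoint_compl_left
  have hsum : defi K U = 2 := by
    rw [hUdef, defi_compl_singleton hsm hpro hmov hn.ge ha₀, ← hn]; push_cast; ring
  obtain ⟨b, hb⟩ : U.Nonempty := by
    rw [← card_pos, hUdef, card_compl, card_singleton]
    have := card_pos.2 ⟨a₀, ha₀⟩
    omega
  set O := orb G ({a₀} : Finset Ω) b with hO
  have hbcl : b ∉ cl K {a₀} := Finset.disjoint_left.1 hd hb
  obtain ⟨hO1, h2t⟩ := defi_orb_pos hsm hpro hA (singleton_nonempty _) hbcl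
  have hOd : defi K O = 1 := by
    refine le_antisymm ?_ hO1
    have hne : (U \ O).Nonempty := by
      rw [sdiff_nonempty]
      intro hsub
      refine hcon (card_le_one.2 ?_)
      intro X hX Y hY
      obtain ⟨x, hx, rfl⟩ := mem_image.1 hX
      obtain ⟨y, hy, rfl⟩ := mem_image.1 hY
      rw [orb_eq (hsub hx), orb_eq (hsub hy)]
    have h := defi_pos hsm hpro hA (singleton_nonempty _) (U := U \ O) (fun h hh z hz => by
      rw [mem_sdiff] at hz ⊢
      exact ⟨compl_singleton_inv a₀ h hh z hz.1, fun hzO => hz.2 (by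
        simpa using orb_inv {a₀} b h⁻¹ (inv_mem hh) _ hzO)⟩) (hd.mono_left sdiff_subset) hne
    rw [defi_sdiff (orb_subset (compl_singleton_inv a₀) hb), hsum, ← hO] at h
    omega
  have h2 := h2t hOd
  have hodd : ¬ 2 ∣ O.card := by rw [defi] at hOd; omega
  classical
  by_cases hswap : ∃ g : G, g • a₀ = b ∧ g • b = a₀
  · obtain ⟨s, hs1, hs2⟩ := hswap
    set R : Finset (Ω × Ω) := univ.filter fun p => ∃ g : G, g • a₀ = p.1 ∧ g • b = p.2 with hR
    have hmem : ∀ p : Ω × Ω, p ∈ R ↔ ∃ g : G, g • a₀ = p.1 ∧ g • b = p.2 := by simp [hR]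
    have hneq : ∀ p ∈ R, p.1 ≠ p.2 := fun p hp e => by
      obtain ⟨g, h1, h2⟩ := (hmem p).1 hp
      exact hbcl (subset_cl _ (by rw [mem_singleton]; exact smul_left_cancel g (h2.trans (e ▸ h1.symm))))
    have heven : (∑ _p ∈ R, (1 : ZMod 2)) = 0 := by
      refine Finset.sum_involution (fun p _ => p.swap) (fun p _ => by decide)
        (fun p hp _ e => hneq p hp (congrArg Prod.fst e).symm) (fun p hp => ?_) (fun p _ => p.swap_swap)
      obtain ⟨g, h1, h2⟩ := (hmem p).1 hp
      exact (hmem _).2 ⟨g * s, by rw [mul_smul, hs1, h2]; rfl, by rw [mul_smul, hs2, h1]; rfl⟩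
    have hfib : ∀ x : Ω, (R.filter fun p => p.1 = x).card = O.card := by
      intro x
      obtain ⟨g, rfl⟩ := exists_smul_eq G a₀ x
      refine card_nbij' (fun p => g⁻¹ • p.2) (fun y => (g • a₀, g • y)) ?_ ?_ ?_ ?_
      · intro p hp
        simp only [Finset.coe_filter, Set.mem_ofPred_eq, hmem] at hp
        obtain ⟨⟨u, h1, h2⟩, h3⟩ := hp
        refine mem_orb.2 ⟨g⁻¹ * u, mem_pst.2 fun z hz => ?_, by rw [mul_smul, h2]⟩
        rw [mem_singleton] at hz
        rw [hz, mul_smul, h1, h3, inv_smul_smul]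
      · intro y hy
        obtain ⟨u, hu, e⟩ := mem_orb.1 hy
        simp only [Finset.coe_filter, Set.mem_ofPred_eq, hmem]
        exact ⟨⟨g * u, by rw [mul_smul, mem_pst.1 hu a₀ (mem_singleton_self _)],
          by rw [mul_smul, e]⟩, trivial⟩
      · intro p hp
        simp only [Finset.coe_filter, Set.mem_ofPred_eq] at hp
        exact Prod.ext hp.2.symm (smul_inv_smul g p.2)
      · exact fun y _ => inv_smul_smul g y
    have hcard : R.card = Fintype.card Ω * O.card := by
      rw [card_eq_sum_card_fiberwise (f := Prod.fst) (t := univ) (fun _ _ => mem_univ _),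
        sum_congr rfl (fun x _ => hfib x), sum_const, card_univ, smul_eq_mul]
    rw [sum_const, nsmul_one, hcard, ZMod.natCast_eq_zero_iff_even, Nat.even_mul] at heven
    rcases heven with h | h
    · obtain ⟨t, ht⟩ := h; omega
    · exact hodd h.two_dvd
  · obtain ⟨c, hc, hcb⟩ : ∃ c ∈ O, c ≠ b := by
      by_contra h
      push Not at h
      have hsub : O ⊆ fixSet (Ω := Ω) K := fun y hy => mem_fixSet.2 fun k hk => by
        rw [h y hy]
        exact h _ (orb_inv {a₀} b k (le_pst hA hk) b (self_mem_orb _ b))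
      rw [defi_subset_fix hsub] at hOd
      omega
    -- a swap inside the doubly transitive suborbit
    obtain ⟨u, hu, e1⟩ := orb_trans (self_mem_orb ({a₀} : Finset Ω) b) hc
    obtain ⟨v, hv, e2, e3⟩ := h2 c hc (u • c) (orb_inv _ b u hu c hc) b (self_mem_orb _ b)
      (fun e => hcb (smul_left_cancel u (e.trans e1.symm))) (Ne.symm hcb)
    -- `(b, c)` lies in the orbital of `(a₀, b)` or of the other suborbit
    obtain ⟨g, hg⟩ := exists_smul_eq G a₀ b
    have hg' : g⁻¹ • b = a₀ := inv_smul_eq_iff.2 hg.symm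
    have hw : ∀ y : Ω, y ≠ b → g⁻¹ • y ∈ U := fun y hy => by
      simp only [hUdef, mem_compl, mem_singleton]
      exact fun e => hy (by rw [← hg, ← e, smul_inv_smul])
    have two : ∀ x ∈ U, ∀ y ∈ U, x ∉ O → y ∉ O → orb G {a₀} x = orb G {a₀} y := by
      intro x hx y hy hxO hyO
      by_contra hne
      have h3 : 3 ≤ (orbs G ({a₀} : Finset Ω) U).card := by
        have hsub : ({O, orb G {a₀} x, orb G {a₀} y} : Finset (Finset Ω)) ⊆ orbs G {a₀} U := by
          simp only [insert_subset_iff, singleton_subset_iff]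
          exact ⟨mem_image_of_mem _ hb, mem_image_of_mem _ hx, mem_image_of_mem _ hy⟩
        refine le_trans (le_of_eq ?_) (card_le_card hsub)
        rw [card_insert_of_notMem, card_pair hne]
        simp only [mem_insert, mem_singleton, not_or]
        exact ⟨fun e => hxO (e ▸ self_mem_orb _ x), fun e => hyO (e ▸ self_mem_orb _ y)⟩
      have := card_le_defi hsm hpro hA (singleton_nonempty _) (compl_singleton_inv a₀) hd
      rw [← hUdef, hsum] at this
      omega
    -- `(b, a₀)` and `(b, c)`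
    have hna : g⁻¹ • a₀ ∉ O := fun h => hswap (by
      obtain ⟨w, hwm, e⟩ := mem_orb.1 h
      exact ⟨g * w, by rw [mul_smul, mem_pst.1 hwm a₀ (mem_singleton_self _), hg],
        by rw [mul_smul, e, smul_inv_smul]⟩)
    by_cases hin : g⁻¹ • c ∈ O
    · obtain ⟨w, hwm, e⟩ := mem_orb.1 hin
      refine hswap ⟨(g * w)⁻¹ * (v * u) * (g * w), ?_, ?_⟩
      · have ea : (g * w) • a₀ = b := by rw [mul_smul, mem_pst.1 hwm a₀ (mem_singleton_self _), hg]
        have eb : (g * w) • b = c := by rw [mul_smul, e, smul_inv_smul]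
        rw [mul_smul, mul_smul, mul_smul v, ea, e1, e2, inv_smul_eq_iff, eb]
      · have ea : (g * w) • a₀ = b := by rw [mul_smul, mem_pst.1 hwm a₀ (mem_singleton_self _), hg]
        have eb : (g * w) • b = c := by rw [mul_smul, e, smul_inv_smul]
        rw [mul_smul, mul_smul, mul_smul v, eb, e3, inv_smul_eq_iff, ea]
    · -- both lie in the second orbital, which is then self-paired
      have hab : a₀ ≠ b := fun e => hbcl (e ▸ subset_cl _ (mem_singleton_self a₀))
      have e' := two _ (hw c hcb) _ (hw a₀ hab) hin hna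
      obtain ⟨w, hwm, e⟩ := mem_orb.1 (e' ▸ self_mem_orb ({a₀} : Finset Ω) (g⁻¹ • a₀))
      -- `t` maps `(b, c)` to `(b, a₀)`
      set t := g * w * g⁻¹ with ht
      have tb : t • b = b := by
        rw [ht, mul_smul, mul_smul, hg', mem_pst.1 hwm a₀ (mem_singleton_self _), hg]
      have tc : t • c = a₀ := by rw [ht, mul_smul, mul_smul, e, smul_inv_smul]
      refine hswap ⟨t * (v * u) * t⁻¹, ?_, ?_⟩
      · rw [mul_smul, inv_smul_eq_iff.2 tc.symm, mul_smul, mul_smul v, e3, tb]
      · rw [mul_smul, inv_smul_eq_iff.2 tb.symm, mul_smul, mul_smul v, e1, e2, tc]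

end CfsgLib.ProFix
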