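import Cfsg.Agent.Lib.Perm.ProFix.Closure
import Cfsg.Agent.Lib.Perm.ProFix.Degree

/-!
# No counterexample of degree `2f`, and the theorem
-/

set_option autoImplicit false

open scoped Pointwise
open Finset MulAction

namespace CfsgLib.ProFix

variable {G Ω : Type} [Group G] [Finite G] [MulAction G Ω] [Fintype Ω] [DecidableEq Ω] [FaithfulSMul G Ω]
  {K : Subgroup G}

theorem jt_pretransitive {t : ℕ} (h : JT G Ω t) : IsMultiplyPretransitive G Ω t := by
  classical
  refine ⟨fun a c => ?_⟩
  have hmem : ∀ x : ↥((univ : Finset (Fin t)).map a), ∃ i, a i = (x : Ω) := fun x => by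
    obtain ⟨i, -, e⟩ := mem_map.1 x.2
    exact ⟨i, e⟩
  choose idx hidx using hmem
  obtain ⟨g, hg⟩ := h (univ.map a) (fun x => c (idx x)) (by simp)
    (fun x y e => Subtype.ext (by rw [← hidx x, ← hidx y, c.injective e]))
  refine ⟨g, Function.Embedding.ext fun i => ?_⟩
  have := hg ⟨a i, mem_map_of_mem a (mem_univ i)⟩
  rw [a.injective (hidx ⟨a i, mem_map_of_mem a (mem_univ i)⟩)] at this
  exact this

theorem exists_moved_point {g : G} (hg : g ≠ 1) : ∃ z : Ω, g • z ≠ z := by
  by_contra h
  push Not at h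
  exact hg (FaithfulSMul.eq_of_smul_eq_smul fun z : Ω => by rw [h z, one_smul])

theorem moved_pow_subset {g : G} (i : ℕ) : (moved (g ^ i) : Finset Ω) ⊆ moved g := fun z hz => by
  rw [mem_moved] at hz ⊢
  intro e
  exact hz (mem_stabilizer_iff.1 (Subgroup.pow_mem _ (mem_stabilizer_iff.2 e) i))

namespace Cx

variable (X : Cx (Ω := Ω) K)
include X

theorem moved_subset {k : G} (hk : k ∈ K) : (moved k : Finset Ω) ⊆ (fixSet (Ω := Ω) K)ᶜ := fun z hz => by
  rw [mem_compl]
  exact fun h => mem_moved.1 hz (smul_fixed hk h)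

theorem moved_le {k : G} (hk : k ∈ K) : (moved k : Finset Ω).card ≤ (fixSet (Ω := Ω) K).card :=
  (card_le_card (X.moved_subset hk)).trans X.moved_card.le

theorem exists_ne_one : ∃ k ∈ K, k ≠ 1 := by
  obtain ⟨a, ha⟩ := X.hmov
  by_contra h
  push Not at h
  exact ha fun k hk => by rw [h k hk, one_smul]

theorem exists_prime : ∃ p : ℕ, p.Prime ∧ ∃ k ∈ K, orderOf k = p := by
  obtain ⟨k, hk, hk1⟩ := X.exists_ne_one
  have ho : orderOf k ≠ 1 := fun e => hk1 (orderOf_eq_one_iff.1 e)
  obtain ⟨p, hp, hpd⟩ := Nat.exists_prime_and_dvd ho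
  exact ⟨p, hp, k ^ (orderOf k / p), pow_mem hk _, orderOf_pow_orderOf_div (orderOf_pos k).ne' hpd⟩

/-- An element moving at most five points gives a three-cycle. -/
theorem no_small {t : ℕ} (hjt : JT G Ω t) (htn : t ≤ Fintype.card Ω) (ht2 : 2 ≤ t)
    (hf : 2 ≤ (fixSet (Ω := Ω) K).card) {g : G} (hg : g ≠ 1) (hgt : (moved g : Finset Ω).card ≤ t)
    (hgn : 2 * (moved g : Finset Ω).card ≤ Fintype.card Ω + 1) : False := by
  classical
  have e : (MulAction.toPerm g : Equiv.Perm Ω).support = moved g := by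
    ext z; simp [moved]
  obtain ⟨x, hx⟩ := CfsgLib.Recog.Marggraff.threeCycle_of_small_support (jt_pretransitive hjt) htn hg
    (by rw [e]; exact hgt) (by rw [e]; exact hgn)
  have := X.htr
  exact no_threeCycle X.hpro X.hmov X.hn hf (hjt.mono ht2) hx

theorem not_pgroup {p : ℕ} (hp : p.Prime) (h : IsPGroup p K) : False := by
  have := X.htr
  exact not_isPGroup X.hpro X.hn X.hf hp h

end Cx

namespace Top

variable {k : ℕ} (X : Top (Ω := Ω) K k)
include X

/-- The partners of a point outside `F`. -/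
theorem partners {M : ℕ}
    (hM : ∀ A : Finset Ω, A.card = k - 1 → ∀ z, z ∉ A → (cl K (insert z A)).card = k - 1 + M)
    {P : Finset Ω} (hP : P ⊆ fixSet K) (hPc : P.card = k - 2) {u : Ω} (hu : u ∉ fixSet (Ω := Ω) K)
    (D : Finset Ω)
    (hD : ∀ z ∈ fixSet K \ P, cl K (insert u (insert z P)) \ insert u (insert z P) ⊆ D) :
    ((fixSet (Ω := Ω) K).card - (k - 2)) * (M - 1) ≤ D.card ∧
    (((fixSet (Ω := Ω) K).card - (k - 2)) * (M - 1) = D.card → ∀ y ∈ D, ∃ z ∈ fixSet (Ω := Ω) K \ P,
      y ∈ cl K (insert u (insert z P)) \ insert u (insert z P)) := by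
  classical
  have hk3 := X.hk3
  set E : Ω → Finset Ω := fun z => cl K (insert u (insert z P)) \ insert u (insert z P) with hE
  have hA : ∀ z ∈ fixSet K \ P, (insert z P).card = k - 1 ∧ u ∉ insert z P ∧ insert z P ⊆ fixSet K := by
    intro z hz
    obtain ⟨hzF, hzP⟩ := mem_sdiff.1 hz
    exact ⟨by rw [card_insert_of_notMem hzP, hPc]; omega, fun h => hu (insert_subset hzF hP h),
      insert_subset hzF hP⟩
  have hEc : ∀ z ∈ fixSet K \ P, (E z).card = M - 1 := fun z hz => by
    obtain ⟨h1, h2, -⟩ := hA z hz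
    rw [hE, card_sdiff_of_subset (subset_cl _), hM _ h1 u h2, card_insert_of_notMem h2, h1]
    omega
  have hEF : ∀ z ∈ fixSet K \ P, ∀ y ∈ E z, y ∉ fixSet (Ω := Ω) K := by
    intro z hz y hy hyF
    obtain ⟨h1, h2, h3⟩ := hA z hz
    obtain ⟨hy1, hy2⟩ := mem_sdiff.1 hy
    have e := X.exch (T := insert u (insert z P)) (by rw [card_insert_of_notMem h2, h1]; omega)
      (mem_insert_self u _) hy1 hy2
    rw [erase_insert h2] at e
    exact hu (cl_subset (K := K) (insert_subset hyF h3) (e ▸ subset_cl _ (mem_insert_self u _)))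
  have hdisj : ((fixSet K \ P : Finset Ω) : Set Ω).PairwiseDisjoint E := by
    intro z hz z' hz' hne
    refine Finset.disjoint_left.2 fun y hy hy' => ?_
    obtain ⟨h1, h2, h3⟩ := hA z hz
    obtain ⟨h1', h2', -⟩ := hA z' hz'
    obtain ⟨hy1, hy2⟩ := mem_sdiff.1 hy
    obtain ⟨hy1', hy2'⟩ := mem_sdiff.1 hy'
    have hzP : z ∉ P := (mem_sdiff.1 hz).2
    have hzP' : z' ∉ P := (mem_sdiff.1 hz').2
    have hzu : u ≠ z := fun e => h2 (e ▸ mem_insert_self z P)
    have hzu' : u ≠ z' := fun e => h2' (e ▸ mem_insert_self z' P)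
    have e1 := X.exch (T := insert u (insert z P)) (by rw [card_insert_of_notMem h2, h1]; omega)
      (x := z) (mem_insert_of_mem (mem_insert_self z P)) hy1 hy2
    have e2 := X.exch (T := insert u (insert z' P)) (by rw [card_insert_of_notMem h2', h1']; omega)
      (x := z') (mem_insert_of_mem (mem_insert_self z' P)) hy1' hy2'
    rw [erase_insert_of_ne hzu, erase_insert hzP] at e1
    rw [erase_insert_of_ne hzu', erase_insert hzP'] at e2
    have hz'cl : z' ∈ cl K (insert u (insert z P)) := by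
      rw [← e1, e2]
      exact subset_cl _ (mem_insert_of_mem (mem_insert_self z' P))
    have hz'not : z' ∉ insert u (insert z P) := by
      simp only [mem_insert, not_or]
      exact ⟨Ne.symm hzu', Ne.symm hne, hzP'⟩
    exact hEF z hz z' (mem_sdiff.2 ⟨hz'cl, hz'not⟩) (mem_sdiff.1 hz').1
  have hsum : ((fixSet K \ P).biUnion E).card = ((fixSet (Ω := Ω) K).card - (k - 2)) * (M - 1) := by
    rw [card_biUnion hdisj, sum_congr rfl hEc, sum_const, smul_eq_mul, card_sdiff_of_subset hP, hPc]
  refine ⟨hsum ▸ card_le_card (biUnion_subset.2 hD), fun e y hy => ?_⟩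
  have h := eq_of_subset_of_card_le (biUnion_subset.2 hD) (by rw [hsum, e])
  obtain ⟨z, hz, hyz⟩ := mem_biUnion.1 (h.symm ▸ hy : y ∈ (fixSet K \ P).biUnion E)
  exact ⟨z, hz, hyz⟩

theorem partner_mem {P : Finset Ω} (hP : P ⊆ fixSet K) (hPc : P.card = k - 2) {u : Ω}
    (hu : u ∉ fixSet (Ω := Ω) K) {z : Ω} (hz : z ∈ fixSet K \ P) {y : Ω}
    (hy : y ∈ cl K (insert u (insert z P)) \ insert u (insert z P)) :
    y ∈ ((fixSet (Ω := Ω) K)ᶜ).erase u := by
  obtain ⟨hzF, hzP⟩ := mem_sdiff.1 hz
  obtain ⟨hy1, hy2⟩ := mem_sdiff.1 hy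
  refine mem_erase.2 ⟨fun e => hy2 (e.symm ▸ mem_insert_self u _), mem_compl.2 fun hyF => ?_⟩
  have h2 : u ∉ insert z P := fun h => hu (insert_subset hzF hP h)
  have hk3 := X.hk3
  have e := X.exch (T := insert u (insert z P))
    (by rw [card_insert_of_notMem h2, card_insert_of_notMem hzP, hPc]; omega) (mem_insert_self u _) hy1 hy2
  rw [erase_insert h2] at e
  exact hu (cl_subset (K := K) (insert_subset hyF (insert_subset hzF hP))
    (e ▸ subset_cl _ (mem_insert_self u _)))

/-- A partner in the `K`-orbit is swapped with the point. -/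
theorem partner_swap {P : Finset Ω} (hP : P ⊆ fixSet K) (hPc : P.card = k - 2)
    (hM : ∀ A : Finset Ω, A.card = k - 1 → ∀ z, z ∉ A → (cl K (insert z A)).card = k - 1 + 2)
    {u : Ω} (hu : u ∉ fixSet (Ω := Ω) K) {z : Ω} (hz : z ∈ fixSet K \ P) {c : G} (hc : c ∈ K)
    (hy : c • u ∈ cl K (insert u (insert z P)) \ insert u (insert z P)) : c • c • u = u := by
  classical
  obtain ⟨hzF, hzP⟩ := mem_sdiff.1 hz
  obtain ⟨hy1, hy2⟩ := mem_sdiff.1 hy
  have hk3 := X.hk3
  have hA : (insert z P).card = k - 1 := by rw [card_insert_of_notMem hzP, hPc]; omega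
  have hAF : insert z P ⊆ fixSet K := insert_subset hzF hP
  have h2 : u ∉ insert z P := fun h => hu (hAF h)
  have e1 : cl K (insert (c • u) (insert z P)) = cl K (insert u (insert z P)) := by
    have := X.exch (T := insert u (insert z P)) (by rw [card_insert_of_notMem h2, hA]; omega)
      (mem_insert_self u _) hy1 hy2
    rwa [erase_insert h2] at this
  have e2 : c • cl K (insert u (insert z P)) = cl K (insert u (insert z P)) := by
    rw [smul_cl, smul_finset_insert, smul_eq_self_of_fix (fun a ha => smul_fixed hc (hAF ha)), e1]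
  have h3 : cl K (insert u (insert z P)) = insert (c • u) (insert u (insert z P)) :=
    (eq_of_subset_of_card_le (insert_subset hy1 (subset_cl _)) (by
      rw [hM _ hA u h2, card_insert_of_notMem hy2, card_insert_of_notMem h2, hA])).symm
  have h4 : c • c • u ∈ cl K (insert u (insert z P)) := by
    rw [← e2]; exact smul_mem_smul_finset hy1
  rw [h3, mem_insert, mem_insert] at h4
  rcases h4 with h | h | h
  · exact absurd (smul_left_cancel c h) fun e => hy2 (e.symm ▸ mem_insert_self u _)
  · exact h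
  · exfalso
    have := smul_fixed (inv_mem hc) (hAF h)
    rw [inv_smul_smul] at this
    exact hy2 (mem_insert_of_mem (this.symm ▸ h))

theorem k_ne_three : k ≠ 3 := by
  intro hk
  obtain ⟨M, hM, -, -, h3, -⟩ := X.uniform (by omega)
  obtain rfl := h3 hk
  obtain ⟨P, hP, hPc⟩ := exists_subset_card_eq (s := fixSet (Ω := Ω) K) (n := k - 2) (by have := X.hkf; omega)
  refine X.cx.not_pgroup Nat.prime_two (fun c => ⟨1, Subtype.ext ?_⟩)
  rw [pow_one, sq, Subgroup.coe_mul, Subgroup.coe_one]
  refine FaithfulSMul.eq_of_smul_eq_smul fun u : Ω => ?_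
  rw [mul_smul, one_smul]
  by_cases hu : u ∈ fixSet (Ω := Ω) K
  · rw [smul_fixed c.2 hu, smul_fixed c.2 hu]
  by_cases hcu : (c : G) • u = u
  · rw [hcu, hcu]
  have hcF : (c : G) • u ∉ fixSet (Ω := Ω) K := fun h => hu (by
    have := smul_fixed (inv_mem c.2) h
    rw [inv_smul_smul] at this
    exact this ▸ h)
  obtain ⟨h1, h2⟩ := X.partners hM hP hPc hu (((fixSet (Ω := Ω) K)ᶜ).erase u)
    (fun z hz y hy => X.partner_mem hP hPc hu hz hy)
  have hDc : (((fixSet (Ω := Ω) K)ᶜ).erase u).card = (fixSet (Ω := Ω) K).card - 1 := by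
    rw [card_erase_of_mem (mem_compl.2 hu), X.cx.moved_card]
  obtain ⟨z, hz, hy⟩ := h2 (by rw [hDc, hk]; omega) ((c : G) • u) (mem_erase.2 ⟨hcu, mem_compl.2 hcF⟩)
  exact X.partner_swap hP hPc hM hu hz c.2 hy

theorem k_ne_four : k ≠ 4 := by
  intro hk
  obtain ⟨M, hM, -, h4, -, -⟩ := X.uniform (by omega)
  obtain rfl := h4 hk
  obtain ⟨P, hP, hPc⟩ := exists_subset_card_eq (s := fixSet (Ω := Ω) K) (n := k - 2) (by have := X.hkf; omega)
  obtain ⟨u, hu⟩ := X.cx.compl_not_empty
  rw [mem_compl] at hu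
  obtain ⟨h1, -⟩ := X.partners hM hP hPc hu (((fixSet (Ω := Ω) K)ᶜ).erase u)
    (fun z hz y hy => X.partner_mem hP hPc hu hz hy)
  rw [card_erase_of_mem (mem_compl.2 hu), X.cx.moved_card] at h1
  have := X.hkf
  omega

/-- Four- and five-element involution argument. -/
theorem no_involution (hk : k = 5 ∨ k = 6) {i : G} (hiK : i ∈ K) (hi : orderOf i = 2)
    (hfull : k = 6 → (moved i : Finset Ω) = (fixSet (Ω := Ω) K)ᶜ) : False := by
  classical
  have hkf := X.hkf
  have hk3 := X.hk3
  have hn := X.cx.hn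
  have hi1 : i ≠ 1 := fun e => by rw [e, orderOf_one] at hi; omega
  have hii : ∀ z : Ω, i • i • z = z := fun z => by
    rw [← mul_smul, ← pow_two, ← hi, pow_orderOf_eq_one, one_smul]
  have hm2 : 2 < (moved i : Finset Ω).card := by
    by_contra h
    exact X.cx.no_small (t := 2) (X.jt.mono (by omega)) (by omega) le_rfl (by omega) hi1 (by omega) (by omega)
  have hiF : ∀ z ∈ (fixSet (Ω := Ω) K), i • z = z := fun z hz => smul_fixed hiK hz
  have hmvF : (moved i : Finset Ω) ⊆ (fixSet (Ω := Ω) K)ᶜ := X.cx.moved_subset hiK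
  obtain ⟨p₁, hp₁⟩ : (moved i : Finset Ω).Nonempty := card_pos.1 (by omega)
  have hp₁' : i • p₁ ∈ (moved i : Finset Ω) := smul_mem_moved.2 hp₁
  -- an invariant set of `k - 2` points
  obtain ⟨P, hPc, hPi, x, hx, hxP, hPd⟩ : ∃ P : Finset Ω, P.card = k - 2 ∧ (∀ z ∈ P, i • z ∈ P) ∧
      ∃ x ∈ (moved i : Finset Ω), x ∉ P ∧
        (k = 5 ∧ (P ∩ (fixSet (Ω := Ω) K)).card = 1 ∨ k = 6 ∧ P ⊆ (moved i : Finset Ω) ∧ i • x ∉ P) := by
    rcases hk with hk | hk
    · obtain ⟨r, hr⟩ := card_pos.1 (show 0 < (fixSet (Ω := Ω) K).card by omega)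
      have hr1 : r ≠ p₁ := fun e => mem_compl.1 (hmvF hp₁) (e ▸ hr)
      have hr2 : r ≠ i • p₁ := fun e => mem_compl.1 (hmvF hp₁') (e ▸ hr)
      obtain ⟨x, hx, hx'⟩ := exists_mem_notMem_of_card_lt_card (s := ({p₁, i • p₁} : Finset Ω))
        (t := (moved i : Finset Ω)) (lt_of_le_of_lt card_le_two hm2)
      refine ⟨{r, p₁, i • p₁}, ?_, ?_, x, hx, ?_, Or.inl ⟨hk, ?_⟩⟩
      · rw [hk, card_insert_of_notMem (by simp [hr1, hr2]), card_pair (Ne.symm (mem_moved.1 hp₁))]
      · intro z hz
        simp only [mem_insert, mem_singleton] at hz ⊢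
        rcases hz with rfl | rfl | rfl
        · exact Or.inl (hiF z hr)
        · exact Or.inr (Or.inr rfl)
        · exact Or.inr (Or.inl (hii p₁))
      · simp only [mem_insert, mem_singleton] at hx' ⊢
        exact fun h => h.elim (fun e => mem_compl.1 (hmvF hx) (e ▸ hr)) hx'
      · rw [card_eq_one]
        refine ⟨r, ?_⟩
        ext z
        simp only [mem_inter, mem_insert, mem_singleton]
        refine ⟨fun ⟨h1, h2⟩ => ?_, fun e => ⟨Or.inl e, e ▸ hr⟩⟩
        rcases h1 with h | rfl | rfl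
        · exact h
        · exact absurd h2 (mem_compl.1 (hmvF hp₁))
        · exact absurd h2 (mem_compl.1 (hmvF hp₁'))
    · have hfull' := hfull hk
      have hm6 : 6 < (moved i : Finset Ω).card := by rw [hfull', X.cx.moved_card]; omega
      obtain ⟨p₂, hp₂, hp₂'⟩ := exists_mem_notMem_of_card_lt_card (s := ({p₁, i • p₁} : Finset Ω))
        (t := (moved i : Finset Ω)) (lt_of_le_of_lt card_le_two hm2)
      have hp₂i : i • p₂ ∈ (moved i : Finset Ω) := smul_mem_moved.2 hp₂
      set P : Finset Ω := {p₁, i • p₁, p₂, i • p₂} with hP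
      have hPi : ∀ z ∈ P, i • z ∈ P := by
        intro z hz
        simp only [hP, mem_insert, mem_singleton] at hz ⊢
        rcases hz with rfl | rfl | rfl | rfl
        · exact Or.inr (Or.inl rfl)
        · exact Or.inl (hii p₁)
        · exact Or.inr (Or.inr (Or.inr rfl))
        · exact Or.inr (Or.inr (Or.inl (hii p₂)))
      simp only [mem_insert, mem_singleton, not_or] at hp₂'
      have hPc : P.card = 4 := by
        rw [hP, card_insert_of_notMem (by
            simp only [mem_insert, mem_singleton, not_or]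
            exact ⟨Ne.symm (mem_moved.1 hp₁), Ne.symm hp₂'.1, fun e => hp₂'.2 (by rw [e, hii])⟩),
          card_insert_of_notMem (by
            simp only [mem_insert, mem_singleton, not_or]
            exact ⟨Ne.symm hp₂'.2, fun e => hp₂'.1 (smul_left_cancel i e).symm⟩),
          card_pair (Ne.symm (mem_moved.1 hp₂))]
      obtain ⟨x, hx, hx'⟩ := exists_mem_notMem_of_card_lt_card (s := P) (t := (moved i : Finset Ω)) (by omega)
      refine ⟨P, by omega, hPi, x, hx, hx', Or.inr ⟨hk, ?_, fun h => hx' (hii x ▸ hPi _ h)⟩⟩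
      simp only [hP, insert_subset_iff, singleton_subset_iff]
      exact ⟨hp₁, hp₁', hp₂, hp₂i⟩
  have hix : i • x ∉ insert x P := by
    rw [mem_insert, not_or]
    exact ⟨mem_moved.1 hx, fun h => hxP (hii x ▸ hPi _ h)⟩
  have hxF : x ∉ (fixSet (Ω := Ω) K) := mem_compl.1 (hmvF hx)
  set Cl : Ω → Finset Ω := fun a => cl K (insert x (insert a P)) with hCl
  have hT : ∀ a ∈ (fixSet (Ω := Ω) K) \ P, (insert a P).card = k - 1 ∧ x ∉ insert a P ∧ i • insert a P = insert a P := by
    intro a ha
    obtain ⟨haF, haP⟩ := mem_sdiff.1 ha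
    refine ⟨by rw [card_insert_of_notMem haP, hPc]; omega, ?_, ?_⟩
    · rw [mem_insert, not_or]; exact ⟨fun e => hxF (e ▸ haF), hxP⟩
    · rw [smul_finset_insert, hiF a haF, smul_eq_of_forall hPi]
  -- a class containing a new fixed point is invariant
  have hinv : ∀ a ∈ (fixSet (Ω := Ω) K) \ P, ∀ y ∈ Cl a, y ∉ insert x (insert a P) → i • y = y → i • x ∈ Cl a := by
    intro a ha y hy hy' hiy
    obtain ⟨h1, h2, h3⟩ := hT a ha
    have e := X.exch (T := insert x (insert a P)) (by rw [card_insert_of_notMem h2, h1]; omega)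
      (mem_insert_self x _) hy hy'
    rw [erase_insert h2] at e
    have e2 : i • Cl a = Cl a := by
      simp only [hCl]
      rw [← e, smul_cl, smul_finset_insert, hiy, h3]
    rw [← e2]
    exact smul_mem_smul_finset (subset_cl _ (mem_insert_self x _))
  have hnew : ∀ a ∈ (fixSet (Ω := Ω) K) \ P, ∃ y, y ∈ Cl a ∧ y ∉ insert x (insert a P) := fun a ha => by
    obtain ⟨h1, h2, -⟩ := hT a ha
    exact X.all_open h1 h2
  rcases hPd with ⟨hk5, hPF⟩ | ⟨hk6, hPm, hixP⟩
  · obtain ⟨M, hM, -, -, -, h5⟩ := X.uniform (by omega)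
    -- every class has two points
    have hM2 : M = 2 := by
      rcases h5 hk5 with h | h
      · exact h
      · subst h
        obtain ⟨P', hP', hPc'⟩ := exists_subset_card_eq (s := (fixSet (Ω := Ω) K)) (n := k - 2) (by omega)
        obtain ⟨h1, -⟩ := X.partners hM hP' hPc' hxF (((fixSet (Ω := Ω) K)ᶜ).erase x)
          (fun z hz y hy => X.partner_mem hP' hPc' hxF hz hy)
        rw [card_erase_of_mem (mem_compl.2 hxF), X.cx.moved_card] at h1
        omega
    subst hM2
    choose! y hy hy' using hnew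
    have hcl2 : ∀ a ∈ (fixSet (Ω := Ω) K) \ P, Cl a = insert (y a) (insert x (insert a P)) := fun a ha => by
      obtain ⟨h1, h2, -⟩ := hT a ha
      refine (eq_of_subset_of_card_le (insert_subset (hy a ha) (subset_cl _)) ?_).symm
      rw [card_insert_of_notMem (hy' a ha), card_insert_of_notMem h2, h1]
      simp only [hCl]
      rw [hM _ h1 x h2]
    have hmv : ∀ a ∈ (fixSet (Ω := Ω) K) \ P, i • y a ≠ y a := fun a ha hfix => by
      have h := hinv a ha (y a) (hy a ha) (hy' a ha) hfix
      rw [hcl2 a ha] at h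
      simp only [mem_insert] at h
      rcases h with h | h | h | h
      · exact mem_moved.1 hx (by
          have := congrArg (fun z => i • z) h
          simp only [hii, hfix] at this
          rw [h, ← this])
      · exact mem_moved.1 hx h
      · exact hxF (by
          have h' : i • x = a := h
          rw [← hii x, h', hiF a (mem_sdiff.1 ha).1]
          exact (mem_sdiff.1 ha).1)
      · exact hix (mem_insert_of_mem h)
    have hmaps : ∀ a ∈ (fixSet (Ω := Ω) K) \ P, y a ∈ (fixSet (Ω := Ω) K)ᶜ \ insert x (P \ (fixSet (Ω := Ω) K)) := fun a ha => by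
      rw [mem_sdiff, mem_compl, mem_insert, not_or, mem_sdiff]
      refine ⟨fun h => hmv a ha (hiF _ h), fun e => hy' a ha (e.symm ▸ mem_insert_self x _), ?_⟩
      exact fun h => hy' a ha (mem_insert_of_mem (mem_insert_of_mem h.1))
    have hinj : Set.InjOn y ((fixSet (Ω := Ω) K) \ P : Finset Ω) := by
      intro a ha b hb e
      by_contra hne
      obtain ⟨h1, h2, -⟩ := hT a ha
      obtain ⟨haF, haP⟩ := mem_sdiff.1 ha
      obtain ⟨hbF, hbP⟩ := mem_sdiff.1 hb
      have hxa : x ≠ a := fun e' => hxF (e' ▸ haF)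
      have hxb : x ≠ b := fun e' => hxF (e' ▸ hbF)
      have ea := X.exch (T := insert x (insert a P)) (by rw [card_insert_of_notMem h2, h1]; omega)
        (x := a) (mem_insert_of_mem (mem_insert_self a P)) (hy a ha) (hy' a ha)
      have eb := X.exch (T := insert x (insert b P))
        (by obtain ⟨h1', h2', -⟩ := hT b hb; rw [card_insert_of_notMem h2', h1']; omega)
        (x := b) (mem_insert_of_mem (mem_insert_self b P)) (hy b hb) (hy' b hb)
      rw [erase_insert_of_ne hxa, erase_insert haP] at ea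
      rw [erase_insert_of_ne hxb, erase_insert hbP] at eb
      have hb' : b ∈ Cl a := by
        simp only [hCl]
        rw [← ea, e, eb]
        exact subset_cl _ (mem_insert_of_mem (mem_insert_self b P))
      rw [hcl2 a ha] at hb'
      simp only [mem_insert] at hb'
      rcases hb' with h | h | h | h
      · exact hmv a ha (hiF _ (h ▸ hbF))
      · exact hxb h.symm
      · exact hne h.symm
      · exact hbP h
    have h1 := card_le_card_of_injOn y hmaps hinj
    have hxc : x ∈ (fixSet (Ω := Ω) K)ᶜ := mem_compl.2 hxF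
    have h2 : insert x (P \ (fixSet (Ω := Ω) K)) ⊆ (fixSet (Ω := Ω) K)ᶜ := insert_subset hxc fun z hz => mem_compl.2 (mem_sdiff.1 hz).2
    rw [card_sdiff_of_subset h2, card_insert_of_notMem (fun h => hxP (mem_sdiff.1 h).1), X.cx.moved_card,
      card_sdiff, card_sdiff, inter_comm (fixSet (Ω := Ω) K) P] at h1
    omega
  · -- `k = 6`: at most four classes contain `i x`
    have hfull' := hfull hk6
    have hPF : Disjoint P (fixSet (Ω := Ω) K) := Finset.disjoint_left.2 fun z hz => mem_compl.1 (hmvF (hPm hz))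
    set Bad := ((fixSet (Ω := Ω) K) \ P).filter fun a => i • x ∈ Cl a with hBad
    set C₀ := cl K (insert (i • x) (insert x P)) with hC₀
    have hT0 : (insert x P).card = k - 1 := by rw [card_insert_of_notMem hxP, hPc]; omega
    have hbad : Bad ⊆ C₀ \ insert (i • x) (insert x P) := by
      intro a ha
      obtain ⟨ha1, ha2⟩ := mem_filter.1 ha
      obtain ⟨h1, h2, -⟩ := hT a ha1
      obtain ⟨haF, haP⟩ := mem_sdiff.1 ha1
      have hxa : x ≠ a := fun e => hxF (e ▸ haF)
      have hixa : i • x ∉ insert x (insert a P) := by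
        simp only [mem_insert, not_or] at hix ⊢
        exact ⟨hix.1, fun e => hxF (by rw [← hii x, e, hiF a haF]; exact haF), hix.2⟩
      have e := X.exch (T := insert x (insert a P)) (by rw [card_insert_of_notMem h2, h1]; omega)
        (x := a) (mem_insert_of_mem (mem_insert_self a P)) ha2 hixa
      rw [erase_insert_of_ne hxa, erase_insert haP] at e
      refine mem_sdiff.2 ⟨?_, ?_⟩
      · rw [hC₀, e]; exact subset_cl _ (mem_insert_of_mem (mem_insert_self a P))
      · simp only [mem_insert, not_or] at hixa ⊢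
        exact ⟨fun e' => hixa.2.1 e'.symm, Ne.symm hxa, haP⟩
    have hbadc : Bad.card ≤ 4 := by
      refine (card_le_card hbad).trans ?_
      have h1 := X.cls_le hT0 hix
      simp only [hC₀] at h1 ⊢
      rw [card_sdiff_of_subset (subset_cl _), card_insert_of_notMem hix, hT0]
      omega
    choose! y hy hy' using hnew
    set Good := ((fixSet (Ω := Ω) K) \ P).filter fun a => i • x ∉ Cl a
    have hyF : ∀ a ∈ Good, y a ∉ (fixSet (Ω := Ω) K) := fun a ha h => by
      obtain ⟨ha1, ha2⟩ := mem_filter.1 ha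
      exact ha2 (hinv a ha1 (y a) (hy a ha1) (hy' a ha1) (hiF _ h))
    have hmaps : ∀ a ∈ Good, y a ∈ (fixSet (Ω := Ω) K)ᶜ \ insert (i • x) (insert x P) := fun a ha => by
      obtain ⟨ha1, ha2⟩ := mem_filter.1 ha
      rw [mem_sdiff, mem_compl, mem_insert, mem_insert, not_or, not_or]
      refine ⟨hyF a ha, fun e => ha2 (e ▸ hy a ha1), fun e => hy' a ha1 (e.symm ▸ mem_insert_self x _), ?_⟩
      exact fun h => hy' a ha1 (mem_insert_of_mem (mem_insert_of_mem h))
    have hinj : Set.InjOn y (Good : Finset Ω) := by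
      intro a ha b hb e
      by_contra hne
      obtain ⟨ha1, ha2⟩ := mem_filter.1 ha
      obtain ⟨hb1, -⟩ := mem_filter.1 hb
      obtain ⟨h1, h2, -⟩ := hT a ha1
      obtain ⟨haF, haP⟩ := mem_sdiff.1 ha1
      obtain ⟨hbF, hbP⟩ := mem_sdiff.1 hb1
      have hxa : x ≠ a := fun e' => hxF (e' ▸ haF)
      have hxb : x ≠ b := fun e' => hxF (e' ▸ hbF)
      have ea := X.exch (T := insert x (insert a P)) (by rw [card_insert_of_notMem h2, h1]; omega)
        (x := a) (mem_insert_of_mem (mem_insert_self a P)) (hy a ha1) (hy' a ha1)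
      have eb := X.exch (T := insert x (insert b P))
        (by obtain ⟨h1', h2', -⟩ := hT b hb1; rw [card_insert_of_notMem h2', h1']; omega)
        (x := b) (mem_insert_of_mem (mem_insert_self b P)) (hy b hb1) (hy' b hb1)
      rw [erase_insert_of_ne hxa, erase_insert haP] at ea
      rw [erase_insert_of_ne hxb, erase_insert hbP] at eb
      have hb' : b ∈ Cl a := by
        simp only [hCl]
        rw [← ea, e, eb]
        exact subset_cl _ (mem_insert_of_mem (mem_insert_self b P))
      refine ha2 (hinv a ha1 b hb' ?_ (hiF b hbF))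
      simp only [mem_insert, not_or]
      exact ⟨Ne.symm hxb, Ne.symm hne, hbP⟩
    have h1 := card_le_card_of_injOn y hmaps hinj
    have h2 : insert (i • x) (insert x P) ⊆ (fixSet (Ω := Ω) K)ᶜ := by
      rw [insert_subset_iff, insert_subset_iff]
      exact ⟨hmvF (smul_mem_moved.2 hx), hmvF hx, fun z hz => hmvF (hPm hz)⟩
    rw [card_sdiff_of_subset h2, card_insert_of_notMem hix, hT0, X.cx.moved_card] at h1
    have h3 : Bad.card + Good.card = ((fixSet (Ω := Ω) K) \ P).card :=
      card_filter_add_card_filter_not (fun a => i • x ∈ Cl a)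
    rw [sdiff_eq_self_of_disjoint hPF.symm] at h3
    omega

/-- `k = 5`: odd order is impossible. -/
theorem k_ne_five : k ≠ 5 := by
  classical
  intro hk
  have hkf := X.hkf
  by_cases h2 : ∃ i ∈ K, orderOf i = 2
  · obtain ⟨i, hiK, hi⟩ := h2
    exact X.no_involution (Or.inl hk) hiK hi (by omega)
  obtain ⟨M, hM, -, -, -, h5⟩ := X.uniform (by omega)
  obtain ⟨P, hP, hPc⟩ := exists_subset_card_eq (s := (fixSet (Ω := Ω) K)) (n := k - 2) (by omega)
  obtain ⟨u, hu⟩ := X.cx.compl_not_empty
  rw [mem_compl] at hu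
  set W : Finset Ω := univ.filter fun w => ∃ c ∈ K, c • u = w with hW
  have huW : u ∈ W := mem_filter.2 ⟨mem_univ u, 1, one_mem K, one_smul G u⟩
  have hWinv : InvU K W := fun c hc w hw => by
    obtain ⟨-, d, hd, e⟩ := mem_filter.1 hw
    exact mem_filter.2 ⟨mem_univ _, c * d, mul_mem hc hd, by rw [mul_smul, e]⟩
  have hWc : k < W.card := by
    by_contra h
    exact hu (X.cx.small_inv X.hcl hWinv (by omega) huW)
  have hWF : W ⊆ (fixSet (Ω := Ω) K)ᶜ := fun w hw => by
    obtain ⟨-, c, hc, rfl⟩ := mem_filter.1 hw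
    rw [mem_compl]
    intro h
    have := smul_fixed (inv_mem hc) h
    rw [inv_smul_smul] at this
    exact hu (this ▸ h)
  rcases h5 hk with rfl | rfl
  · obtain ⟨h1, -⟩ := X.partners hM hP hPc hu ((fixSet (Ω := Ω) K)ᶜ \ W) fun z hz y hy => by
      refine mem_sdiff.2 ⟨mem_of_mem_erase (X.partner_mem hP hPc hu hz hy), fun hyW => ?_⟩
      obtain ⟨-, c, hc, rfl⟩ := mem_filter.1 hyW
      have hcc := X.partner_swap hP hPc hM hu hz hc hy
      have hne : c • u ≠ u := fun e => (mem_sdiff.1 hy).2 (e.symm ▸ mem_insert_self u _)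
      have hodd : Odd (orderOf c) := by
        rw [← Nat.not_even_iff_odd]
        intro he
        exact h2 ⟨c ^ (orderOf c / 2), pow_mem hc _,
          orderOf_pow_orderOf_div (orderOf_pos c).ne' (even_iff_two_dvd.1 he)⟩
      obtain ⟨l, hl⟩ := hodd
      have h3 : c ^ (2 * l + 1) • u = u := by rw [← hl, pow_orderOf_eq_one, one_smul]
      have h4 : (c ^ 2) ^ l • u = u :=
        mem_stabilizer_iff.1 (Subgroup.pow_mem _ (mem_stabilizer_iff.2 (by rw [pow_two, mul_smul, hcc])) l)
      rw [pow_succ', mul_smul, pow_mul, h4] at h3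
      exact hne h3
    rw [card_sdiff_of_subset hWF, X.cx.moved_card, hk] at h1
    omega
  · obtain ⟨h1, -⟩ := X.partners hM hP hPc hu (((fixSet (Ω := Ω) K)ᶜ).erase u)
      (fun z hz y hy => X.partner_mem hP hPc hu hz hy)
    rw [card_erase_of_mem (mem_compl.2 hu), X.cx.moved_card] at h1
    omega

end Top

theorem Cx.absurd' (X : Cx (Ω := Ω) K) : False := by
  classical
  obtain ⟨k, hk2, hkf, hcl, B, hBF, hBk, hBcl⟩ := X.exists_level
  have hn := X.hn
  have hk3 : 3 ≤ k := by
    by_contra h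
    obtain rfl : k = 2 := by omega
    -- pairs: the point stabiliser is transitive, its classes have size at most one
    obtain ⟨a, ha⟩ : B.Nonempty := card_pos.1 (by omega)
    obtain ⟨b, hb⟩ := card_eq_one.1 (show (B.erase a).card = 1 by rw [card_erase_of_mem ha]; omega)
    have hA : ({b} : Finset Ω) ⊆ fixSet K := hb ▸ (erase_subset a B).trans hBF
    have hab : a ∉ ({b} : Finset Ω) := hb ▸ notMem_erase a B
    have hB : insert a ({b} : Finset Ω) = B := by rw [← hb, insert_erase ha]
    have htr := X.htr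
    have horb : ∀ w ∈ ({b}ᶜ : Finset Ω), ∃ h ∈ pst G ({b} : Finset Ω), h • a = w := by
      intro w hw
      obtain ⟨g, hg⟩ := X.jt_two {b, a} (fun z => if (z : Ω) = b then b else w)
        (card_le_two) (fun p q e => by
          apply Subtype.ext
          have hp : (p : Ω) = b ∨ (p : Ω) = a := (mem_insert.1 p.2).imp_right mem_singleton.1
          have hq : (q : Ω) = b ∨ (q : Ω) = a := (mem_insert.1 q.2).imp_right mem_singleton.1
          have hw' : w ≠ b := by simpa using hw
          have hab' : a ≠ b := by simpa using hab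
          rcases hp with hp | hp <;> rcases hq with hq | hq <;> simp_all)
      refine ⟨g, mem_pst.2 fun z hz => ?_, ?_⟩
      · rw [mem_singleton] at hz
        subst hz
        simpa using hg ⟨z, mem_insert_self _ _⟩
      · have hab' : a ≠ b := by simpa using hab
        simpa [hab'] using hg ⟨a, mem_insert_of_mem (mem_singleton_self a)⟩
    have hcard : ∀ w ∈ ({b}ᶜ : Finset Ω), (cl K (insert w {b})).card = (cl K B).card := fun w hw => by
      obtain ⟨h, hh, rfl⟩ := horb w hw
      rw [← hB, ← card_smul_finset h (cl K (insert a {b})), smul_cl, smul_finset_insert,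
        smul_eq_self_of_fix (mem_pst.1 hh)]
    obtain ⟨q, hq, hd, -⟩ := defi_classes X.hsm X.hpro hA (fun w => cl K (insert w {b}) \ {b})
      (fun h hh w => by simp only [smul_finset_sdiff, smul_cl, smul_finset_insert,
        smul_eq_self_of_fix (mem_pst.1 hh)]) (z := a)
      (fun w hw => mem_sdiff.2 ⟨subset_cl _ (mem_insert_self w _), notMem_of_mem_orb hab hw⟩)
      (fun w _ => by rw [X.cl_single]; exact sdiff_disjoint)
      (fun w hw v hv => by
        obtain ⟨h1, h2⟩ := mem_sdiff.1 hv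
        show cl K (insert v {b}) \ {b} = cl K (insert w {b}) \ {b}
        congr 1
        exact eq_of_subset_of_card_le (cl_mono (insert_subset h1 ((subset_insert w _).trans (subset_cl _))))
          (by rw [hcard v (mem_compl.2 h2), hcard w (mem_compl.2 (notMem_of_mem_orb hab hw))]))
      (fun w hw => by
        obtain ⟨g, hg⟩ := X.covered hcl (insert w {b}) card_le_two
        exact ⟨g, sdiff_subset.trans (cl_subset_smul hg)⟩)
      (Or.inl (card_lt_univ_of_notMem (x := b) fun h => notMem_of_mem_orb hab h (mem_singleton_self b)))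
    have hU : (orb G ({b} : Finset Ω) a).biUnion (fun w => cl K (insert w {b}) \ {b}) = {b}ᶜ := by
      refine Subset.antisymm (biUnion_subset.2 fun w _ z hz => mem_compl.2 (mem_sdiff.1 hz).2) fun z hz => ?_
      obtain ⟨h, hh, e⟩ := horb z hz
      exact mem_biUnion.2 ⟨z, mem_orb.2 ⟨h, hh, e⟩,
        mem_sdiff.2 ⟨subset_cl _ (mem_insert_self z _), mem_compl.1 hz⟩⟩
    have h1 := X.defi_compl hcl hA (by rw [card_singleton]; omega)
    rw [hU, h1, card_singleton, hB] at hd
    have h2 : 2 ≤ (cl K B \ {b}).card := by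
      rw [card_sdiff_of_subset (by rw [← hb]; exact (erase_subset a B).trans (subset_cl _)), card_singleton]
      have := card_lt_card (Finset.ssubset_iff_subset_ne.2 ⟨subset_cl (K := K) B, Ne.symm hBcl⟩)
      omega
    have h3 : (2 : ℤ) ≤ (cl K B \ {b}).card := by exact_mod_cast h2
    push_cast at hd
    nlinarith
  by_cases hk6 : k ≤ 5
  · have T : Top (Ω := Ω) K k := ⟨X, hcl, hk3, by omega, hkf, B, hBF, hBk, hBcl⟩
    rcases (show k = 3 ∨ k = 4 ∨ k = 5 by omega) with h | h | h
    · exact T.k_ne_three h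
    · exact T.k_ne_four h
    · exact T.k_ne_five h
  -- five-fold transitive
  have hjt : JT G Ω 5 := X.jt_of_closed hcl hkf.le 5 (by omega) (by omega)
  obtain ⟨k₀, hk₀, hk₀1⟩ := X.exists_ne_one
  have : Fintype G := Fintype.ofFinite G
  obtain ⟨g, hg, hgmin⟩ := (univ.filter fun g : G => g ≠ 1).exists_min_image
    (fun g => (moved g : Finset Ω).card) ⟨k₀, by simp [hk₀1]⟩
  have hg1 : g ≠ 1 := (mem_filter.1 hg).2
  have hmin : ∀ x : G, (∃ z : Ω, x • z ≠ z) → (moved g : Finset Ω).card ≤ (moved x : Finset Ω).card :=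
    fun x ⟨z, hz⟩ => hgmin x (mem_filter.2 ⟨mem_univ x, fun e => hz (by rw [e, one_smul])⟩)
  have hgf : (moved g : Finset Ω).card ≤ (fixSet (Ω := Ω) K).card :=
    (hmin k₀ (exists_moved_point hk₀1)).trans (X.moved_le hk₀)
  have hg6 : 6 ≤ (moved g : Finset Ω).card := by
    by_contra h
    exact X.no_small hjt (by omega) (by omega) (by omega) hg1 (by omega) (by omega)
  obtain ⟨p, hp, hpd⟩ := Nat.exists_prime_and_dvd fun e => hg1 (orderOf_eq_one_iff.1 e)
  set x := g ^ (orderOf g / p) with hx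
  have hxo : orderOf x = p := orderOf_pow_orderOf_div (orderOf_pos g).ne' hpd
  have hx1 : x ≠ 1 := fun e => by rw [e, orderOf_one] at hxo; exact hp.one_lt.ne hxo
  have hxc : (moved x : Finset Ω).card = (moved g : Finset Ω).card :=
    le_antisymm (card_le_card (moved_pow_subset _)) (hmin x (exists_moved_point hx1))
  obtain ⟨-, hle, hno6⟩ := small_degree (x := x) hp (hxo ▸ pow_orderOf_eq_one x) hjt hxc hg6 (by omega)
    hmin
  obtain rfl : k = 6 := by
    by_contra h
    exact hno6 (X.jt_of_closed hcl hkf.le 6 le_rfl (by omega))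
  have hfull : ∀ c ∈ K, c ≠ 1 → (moved c : Finset Ω) = (fixSet (Ω := Ω) K)ᶜ := fun c hc hc1 =>
    eq_of_subset_of_card_le (X.moved_subset hc) (by
      have := hmin c (exists_moved_point hc1)
      rw [X.moved_card]; omega)
  have T : Top (Ω := Ω) K 6 := ⟨X, hcl, hk3, le_rfl, hkf, B, hBF, hBk, hBcl⟩
  by_cases h2 : ∃ i ∈ K, orderOf i = 2
  · obtain ⟨i, hi, hio⟩ := h2
    exact T.no_involution (Or.inr rfl) hi hio fun _ =>
      hfull i hi fun e => by rw [e, orderOf_one] at hio; omega
  have hq : ∀ q : ℕ, q.Prime → ∀ c ∈ K, orderOf c = q → q = 3 := fun q hq c hc hco => by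
    have hc1 : c ≠ 1 := fun e => by rw [e, orderOf_one] at hco; exact hq.one_lt.ne hco
    obtain ⟨h, -, -⟩ := small_degree (x := c) hq (hco ▸ pow_orderOf_eq_one c) hjt
      (show (moved c : Finset Ω).card = (fixSet (Ω := Ω) K).card by rw [hfull c hc hc1, X.moved_card])
      (by omega) (by omega) (fun y hy => by have := hmin y hy; omega)
    rcases h with rfl | rfl
    · exact absurd ⟨c, hc, hco⟩ h2
    · rfl
  refine X.not_pgroup Nat.prime_three ?_
  refine IsPGroup.of_card (n := (Nat.card K).primeFactorsList.length) ?_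
  refine Nat.eq_prime_pow_of_unique_prime_dvd Nat.card_pos.ne' fun {d} hd hdvd => ?_
  have : Fact d.Prime := ⟨hd⟩
  obtain ⟨c, hc⟩ := exists_prime_orderOf_dvd_card' (G := K) d hdvd
  exact hq d hd c c.2 (by rw [Subgroup.orderOf_coe, hc])

end CfsgLib.ProFix
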