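import Cfsg.Agent.Lib.Perm.ProFix.Extremal

/-!
# A closed orbit at a level of transitivity forces one more level
-/

set_option autoImplicit false

open scoped Pointwise
open Finset MulAction

namespace CfsgLib.ProFix

variable {G Ω : Type} [Group G] [MulAction G Ω] [Fintype Ω] [DecidableEq Ω] {K : Subgroup G}

/-- `j`-fold transitivity. -/
def JT (G Ω : Type) [Group G] [MulAction G Ω] (j : ℕ) : Prop :=
  ∀ (s : Finset Ω) (f : ↥s → Ω), s.card ≤ j → Function.Injective f → ∃ g : G, ∀ x : ↥s, g • (x : Ω) = f x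

theorem JT.mono {i j : ℕ} (h : JT G Ω j) (hij : i ≤ j) : JT G Ω i := fun s f hs hf =>
  h s f (hs.trans hij) hf

/-- Two nested pairs of sets of the same sizes are translates. -/
theorem JT.map_sets {j : ℕ} (h : JT G Ω j) {A A' Y U : Finset Ω} (hA : A.card ≤ j)
    (hAA : A.card = A'.card) (hY : Y ⊆ A) (hU : U ⊆ A') (hYU : Y.card = U.card) :
    ∃ g : G, g • A = A' ∧ g • Y = U := by
  classical
  let e₁ := Finset.equivOfCardEq hYU
  let e₂ := Finset.equivOfCardEq (s := A \ Y) (t := A' \ U)
    (by rw [card_sdiff_of_subset hY, card_sdiff_of_subset hU]; omega)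
  let f : ↥A → Ω := fun x => if hx : (x : Ω) ∈ Y then (e₁ ⟨x, hx⟩ : Ω)
    else (e₂ ⟨x, mem_sdiff.2 ⟨x.2, hx⟩⟩ : Ω)
  have hin : ∀ x : ↥A, (f x ∈ U ↔ (x : Ω) ∈ Y) ∧ f x ∈ A' := fun x => by
    by_cases hx : (x : Ω) ∈ Y
    · have h1 : f x = e₁ ⟨x, hx⟩ := by simp [f, hx]
      rw [h1]
      exact ⟨⟨fun _ => hx, fun _ => (e₁ _).2⟩, hU (e₁ _).2⟩
    · have h1 : f x = e₂ ⟨x, mem_sdiff.2 ⟨x.2, hx⟩⟩ := by simp [f, hx]
      rw [h1]
      have h2 := mem_sdiff.1 (e₂ ⟨x, mem_sdiff.2 ⟨x.2, hx⟩⟩).2
      exact ⟨⟨fun h => absurd h h2.2, fun h => absurd h hx⟩, h2.1⟩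
  have hf : Function.Injective f := by
    intro x y e
    by_cases hx : (x : Ω) ∈ Y
    · have hy : (y : Ω) ∈ Y := (hin y).1.1 (e ▸ (hin x).1.2 hx)
      simp only [f, dif_pos hx, dif_pos hy] at e
      exact Subtype.ext (Subtype.mk_eq_mk.1 (e₁.injective (Subtype.ext e)))
    · have hy : (y : Ω) ∉ Y := fun hy => hx ((hin x).1.1 (e.symm ▸ (hin y).1.2 hy))
      simp only [f, dif_neg hx, dif_neg hy] at e
      exact Subtype.ext (Subtype.mk_eq_mk.1 (e₂.injective (Subtype.ext e)))
  obtain ⟨g, hg⟩ := h A f hA hf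
  refine ⟨g, eq_of_subset_of_card_le ?_ (by rw [card_smul_finset, hAA]),
    eq_of_subset_of_card_le ?_ (by rw [card_smul_finset, hYU])⟩
  · intro w hw
    obtain ⟨x, hx, rfl⟩ := mem_smul_finset.1 hw
    rw [hg ⟨x, hx⟩]
    exact (hin ⟨x, hx⟩).2
  · intro w hw
    obtain ⟨x, hx, rfl⟩ := mem_smul_finset.1 hw
    rw [hg ⟨x, hY hx⟩]
    exact (hin ⟨x, hY hx⟩).1.2 hx

theorem JT.map_set {j : ℕ} (h : JT G Ω j) {A A' : Finset Ω} (hA : A.card ≤ j)
    (hAA : A.card = A'.card) : ∃ g : G, g • A = A' :=
  let ⟨g, hg, _⟩ := h.map_sets hA hAA (Y := ∅) (U := ∅) (empty_subset _) (empty_subset _) rfl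
  ⟨g, hg⟩

theorem JT.succ {j : ℕ} (h : JT G Ω j)
    (htr : ∀ A : Finset Ω, A.card = j → ∀ x ∉ A, ∀ y ∉ A, ∃ g ∈ pst G A, g • x = y) :
    JT G Ω (j + 1) := by
  classical
  intro s f hs hf
  by_cases hj : s.card ≤ j
  · exact h s f hj hf
  obtain ⟨x, hx⟩ : s.Nonempty := card_pos.1 (by omega)
  let f' : ↥(s.erase x) → Ω := fun y => f ⟨y, mem_of_mem_erase y.2⟩
  have hf' : Function.Injective f' := fun y z e => Subtype.ext (Subtype.mk_eq_mk.1 (hf e))
  obtain ⟨g, hg⟩ := h (s.erase x) f' (by rw [card_erase_of_mem hx]; omega) hf'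
  obtain ⟨k, hk, hkx⟩ := htr (g • s.erase x) (by rw [card_smul_finset, card_erase_of_mem hx]; omega)
    (g • x) (fun hmem => by rw [smul_mem_smul_finset_iff] at hmem; exact (mem_erase.1 hmem).1 rfl)
    (f ⟨x, hx⟩) (fun hmem => by
      obtain ⟨y, hy, e⟩ := mem_smul_finset.1 hmem
      rw [hg ⟨y, hy⟩] at e
      exact (mem_erase.1 hy).1 (congrArg Subtype.val (hf e)))
  refine ⟨k * g, fun y => ?_⟩
  by_cases hy : (y : Ω) = x
  · rw [show y = ⟨x, hx⟩ from Subtype.ext hy, mul_smul]
    exact hkx
  · rw [mul_smul, hg ⟨y, mem_erase.2 ⟨hy, y.2⟩⟩]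
    refine mem_pst.1 hk _ ?_
    rw [← hg ⟨y, mem_erase.2 ⟨hy, y.2⟩⟩]
    exact smul_mem_smul_finset (mem_erase.2 ⟨hy, y.2⟩)

theorem le_choose {n k : ℕ} (h1 : 1 ≤ k) (h2 : k < n) : n ≤ n.choose k := by
  induction n generalizing k with
  | zero => omega
  | succ n ih =>
    obtain ⟨i, rfl⟩ : ∃ i, k = i + 1 := ⟨k - 1, by omega⟩
    rw [Nat.choose_succ_succ]
    rcases Nat.lt_or_ge (i + 1) n with h | h
    · have := ih (by omega) h
      have := Nat.choose_pos (show i ≤ n by omega)
      show n + 1 ≤ n.choose i + n.choose (i + 1)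
      omega
    · obtain rfl : i + 1 = n := by omega
      show i + 1 + 1 ≤ (i + 1).choose i + (i + 1).choose (i + 1)
      rw [Nat.choose_succ_self_right, Nat.choose_self]

/-- Data at a level: degree `2f`, `G` is `j`-transitive and the `j`-subsets of `F` are closed. -/
structure Lvl (K : Subgroup G) (j : ℕ) : Prop where
  hsm : Small (Fintype.card Ω)
  hpro : IsPro K
  hn : Fintype.card Ω = 2 * (fixSet (Ω := Ω) K).card
  jt : JT G Ω j
  two : 2 ≤ j
  closed : ∀ A : Finset Ω, A ⊆ fixSet K → A.card = j → cl K A = A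

variable {j : ℕ}

theorem Lvl.defi_compl (L : Lvl (Ω := Ω) K j) {A : Finset Ω} (hA : A ⊆ fixSet K) (hAc : A.card = j) :
    defi K Aᶜ = j := by
  have := defi_compl_cl (K := K) hA
  rw [L.closed A hA hAc, hAc, L.hn] at this
  rw [this]; push_cast; ring

theorem Lvl.card_orbs (L : Lvl (Ω := Ω) K j) {A : Finset Ω} (hA : A ⊆ fixSet K) (hAc : A.card = j) :
    (orbs G A Aᶜ).card ≤ j := by
  have h := card_le_defi L.hsm L.hpro hA (card_pos.1 (by have := L.two; omega))
    (compl_inv fun h hh z hz => by rw [mem_pst.1 hh z hz]; exact hz)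
    (U := Aᶜ) (by rw [L.closed A hA hAc]; exact disjoint_compl_left)
  rw [L.defi_compl hA hAc] at h
  omega

/-- The setwise stabiliser of `j + 1` points of `F` is transitive on them. -/
theorem Lvl.transT (L : Lvl (Ω := Ω) K j) {T : Finset Ω} (hT : T ⊆ fixSet K) (hTc : T.card = j + 1)
    {a b : Ω} (ha : a ∈ T) (hb : b ∈ T) : ∃ g : G, g • T = T ∧ g • a = b := by
  classical
  by_contra hno
  set Za := T.filter fun y => ∃ g : G, g • T = T ∧ g • a = y with hZa
  have hbZ : b ∉ Za := fun h => hno (mem_filter.1 h).2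
  have haZ : a ∈ Za := mem_filter.2 ⟨ha, 1, one_smul G T, one_smul G a⟩
  -- a point `p`, a proper invariant subset `Y` and a point `q` outside the orbit of `p`
  obtain ⟨p, hp, q, hq, Y, hY, hYne, hYlt, hYinv, hpq⟩ : ∃ p ∈ T, ∃ q ∈ T, ∃ Y : Finset Ω,
      Y ⊆ T.erase p ∧ Y.Nonempty ∧ Y.card < j ∧
      (∀ g : G, g • T = T → g • p = p → g • Y = Y) ∧ ¬ ∃ g : G, g • T = T ∧ g • q = p := by
    by_cases hsingle : Za = {a}
    · refine ⟨b, hb, a, ha, {a}, ?_, singleton_nonempty _, by rw [card_singleton]; have := L.two; omega,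
        fun g hg _ => ?_, hno⟩
      · rw [singleton_subset_iff, mem_erase]
        exact ⟨fun e => hbZ (e ▸ haZ), ha⟩
      · have : g • a ∈ Za := mem_filter.2 ⟨by rw [← hg]; exact smul_mem_smul_finset ha, g, hg, rfl⟩
        rw [hsingle, mem_singleton] at this
        rw [smul_finset_singleton, this]
    · refine ⟨a, ha, b, hb, Za.erase a, erase_subset_erase a (filter_subset _ _), ?_, ?_,
        fun g hg hga => ?_, fun ⟨g, hg, e⟩ => hno ⟨g⁻¹, inv_smul_eq_iff.2 hg.symm, inv_smul_eq_iff.2 e.symm⟩⟩
      · rw [← card_pos, card_erase_of_mem haZ]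
        have : 1 < Za.card := by
          by_contra h
          exact hsingle (eq_of_subset_of_card_le (singleton_subset_iff.2 haZ)
            (by rw [card_singleton]; omega)).symm
        omega
      · have h1 : Za ⊂ T := ⟨filter_subset _ _, fun h => hbZ (h hb)⟩
        have := card_lt_card h1
        have := card_pos.2 ⟨a, haZ⟩
        rw [card_erase_of_mem haZ]
        omega
      · refine smul_eq_of_forall fun y hy => ?_
        obtain ⟨hya, hyT, u, hu, hua⟩ : y ≠ a ∧ y ∈ T ∧ ∃ u : G, u • T = T ∧ u • a = y :=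
          ⟨(mem_erase.1 hy).1, (mem_filter.1 (mem_erase.1 hy).2).1, (mem_filter.1 (mem_erase.1 hy).2).2⟩
        exact mem_erase.2 ⟨fun e => hya (smul_left_cancel g (e.trans hga.symm)),
          mem_filter.2 ⟨by rw [← hg]; exact smul_mem_smul_finset hyT, g * u,
            by rw [mul_smul, hu, hg], by rw [mul_smul, hua]⟩⟩
  set A := T.erase p with hA
  have hAc : A.card = j := by rw [hA, card_erase_of_mem hp, hTc]; rfl
  have hAF : A ⊆ fixSet K := (erase_subset _ _).trans hT
  have hpA : p ∉ A := notMem_erase p T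
  have hTins : insert p A = T := insert_erase hp
  have hgT : ∀ g : G, g • A = A → g • p = p → g • T = T := fun g h1 h2 => by
    rw [← hTins, smul_finset_insert, h1, h2]
  -- one orbit for each subset of the size of `Y`
  have hex : ∀ V ∈ powersetCard Y.card A, ∃ g : G, g • A = A ∧ g • Y = V := fun V hV =>
    L.jt.map_sets hAc.le rfl hY (mem_powersetCard.1 hV).1 (mem_powersetCard.1 hV).2.symm
  choose! gV hgA hgY using hex
  set B := (powersetCard Y.card A).image fun V => orb G A (gV V • p) with hB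
  have hBcard : B.card = (powersetCard Y.card A).card := by
    refine card_image_of_injOn fun U hU V hV e => ?_
    obtain ⟨h, hh, e'⟩ := mem_orb.1 (show gV V • p ∈ orb G A (gV U • p) by
      rw [show orb G A (gV U • p) = orb G A (gV V • p) from e]; exact self_mem_orb _ _)
    set w := (gV V)⁻¹ * (h * gV U) with hw
    have hwp : w • p = p := by rw [hw, mul_smul, mul_smul, e', inv_smul_smul]
    have hwA : w • A = A := by
      rw [hw, mul_smul, mul_smul, hgA U hU, smul_eq_self_of_fix (mem_pst.1 hh)]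
      exact inv_smul_eq_iff.2 (hgA V hV).symm
    have := hYinv w (hgT w hwA hwp) hwp
    rw [hw, mul_smul, mul_smul, hgY U hU, inv_smul_eq_iff, hgY V hV,
      smul_eq_self_of_fix (fun z hz => mem_pst.1 hh z ((mem_powersetCard.1 hU).1 hz))] at this
    exact this
  -- and one more
  have hTq : (T.erase q).card = A.card := by rw [card_erase_of_mem hq, hAc, hTc]; rfl
  obtain ⟨g₀, hg₀⟩ := L.jt.map_set (by omega) hTq
  have hq₀ : g₀ • q ∉ A := fun h => by
    rw [← hg₀, smul_mem_smul_finset_iff] at h
    exact notMem_erase q T h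
  have hnew : orb G A (g₀ • q) ∉ B := by
    intro h
    obtain ⟨V, hV, e⟩ := mem_image.1 h
    obtain ⟨k, hk, e'⟩ := mem_orb.1 (show g₀ • q ∈ orb G A (gV V • p) by rw [e]; exact self_mem_orb _ _)
    set w := g₀⁻¹ * (k * gV V) with hw
    have hwp : w • p = q := by rw [hw, mul_smul, mul_smul, e', inv_smul_smul]
    have hwA : w • A = T.erase q := by
      rw [hw, mul_smul, mul_smul, hgA V hV, smul_eq_self_of_fix (mem_pst.1 hk)]
      exact inv_smul_eq_iff.2 hg₀.symm
    have hwT : w • T = T := by rw [← hTins, smul_finset_insert, hwA, hwp, insert_erase hq, hTins]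
    exact hpq ⟨w⁻¹, inv_smul_eq_iff.2 hwT.symm, inv_smul_eq_iff.2 hwp.symm⟩
  have hsub : insert (orb G A (g₀ • q)) B ⊆ orbs G A Aᶜ := by
    rw [insert_subset_iff]
    refine ⟨mem_image_of_mem _ (mem_compl.2 hq₀), fun O hO => ?_⟩
    obtain ⟨V, hV, rfl⟩ := mem_image.1 hO
    refine mem_image_of_mem _ (mem_compl.2 fun h => ?_)
    have h' : gV V • p ∈ gV V • A := by rw [hgA V hV]; exact h
    rw [smul_mem_smul_finset_iff] at h'
    exact hpA h'
  have h1 := card_le_card hsub
  rw [card_insert_of_notMem hnew, hBcard, card_powersetCard, hAc] at h1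
  have h2 := le_choose (n := j) (card_pos.2 hYne) hYlt
  have h3 := L.card_orbs hAF hAc
  omega

/-- A closed orbit forces transitivity. -/
theorem Lvl.level (L : Lvl (Ω := Ω) K j) (hj : j ≤ 5) {A : Finset Ω} (hA : A ⊆ fixSet K)
    (hAc : A.card = j) {b : Ω} (hbA : b ∉ A) (hbF : b ∈ fixSet (Ω := Ω) K)
    (hTcl : cl K (insert b A) = insert b A) {w : Ω} (hwA : w ∉ A) (hwO : w ∉ orb G A b)
    (hd : defi K (orb G A b) = 1 ∨ defi K (orb G A b) + 1 < (j : ℤ)) : False := by
  classical
  set O := orb G A b with hO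
  set T := insert b A with hT
  set d := defi K O with hdd
  have hTF : T ⊆ fixSet K := insert_subset hbF hA
  have hTc : T.card = j + 1 := by rw [hT, card_insert_of_notMem hbA, hAc]
  have hAne : A.Nonempty := card_pos.1 (by have := L.two; omega)
  have hclA := L.closed A hA hAc
  have hAinv : InvU (pst G A) A := fun h hh z hz => by rw [mem_pst.1 hh z hz]; exact hz
  have hTne : T.Nonempty := ⟨b, mem_insert_self _ _⟩
  have hTinv : InvU (pst G T) T := fun h hh z hz => by rw [mem_pst.1 hh z hz]; exact hz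
  have hOA : Disjoint O (cl K A) := orb_disjoint_cl (by rw [hclA]; exact hbA)
  obtain ⟨hd0, h2t⟩ := defi_orb_pos L.hsm L.hpro hA hAne (z := b) (by rw [hclA]; exact hbA)
  have hd1 : 1 ≤ d := hd0
  have hAsub : ∀ t, (T.erase t) ⊆ fixSet K := fun t => (erase_subset _ _).trans hTF
  have hTerase : T.erase b = A := erase_insert hbA
  -- the orbits `Ot t` and their parts `D t`
  set Ot : Ω → Finset Ω := fun t => orb G (T.erase t) t with hOt
  set D : Ω → Finset Ω := fun t => (Ot t).erase t with hD
  have hOtb : Ot b = O := by rw [hOt]; simp only [hTerase]; rfl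
  have hgOt : ∀ g : G, g • T = T → ∀ t : Ω, g • Ot t = Ot (g • t) := fun g hg t => by
    simp only [hOt, smul_orb, erase_eq, smul_finset_sdiff, smul_finset_singleton, hg]
  have hgD : ∀ g : G, g • T = T → ∀ t : Ω, g • D t = D (g • t) := fun g hg t => by
    simp only [hD, erase_eq, smul_finset_sdiff, smul_finset_singleton, hgOt g hg t]
  have hDdef : ∀ t ∈ T, defi K (D t) = d + 1 := by
    intro t ht
    obtain ⟨g, hg, rfl⟩ := L.transT hTF hTc (mem_insert_self b A) ht
    simp only [hD]
    rw [defi_erase (self_mem_orb _ _) (hTF ht)]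
    change defi K (Ot (g • b)) + 1 = d + 1
    rw [← hgOt g hg b, hOtb, hdd]
    congr 1
    refine defi_smul L.hpro (orb_inv A b) hA ?_
    have : g • A ⊆ g • T := smul_finset_subset_smul_finset (subset_insert _ _)
    rw [hg] at this
    exact this.trans hTF
  have hDinv : ∀ t ∈ T, InvU (pst G T) (D t) := fun t ht h hh z hz => by
    rw [hD, mem_erase] at hz ⊢
    exact ⟨fun e => hz.1 (smul_left_cancel h (e.trans (mem_pst.1 hh t ht).symm)),
      orb_inv _ t h (pst_mono (erase_subset t T) hh) z hz.2⟩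
  have hDT : ∀ t ∈ T, Disjoint (D t) T := fun t ht => Finset.disjoint_left.2 fun z hz hzT => by
    rw [hD, mem_erase] at hz
    exact notMem_of_mem_orb (notMem_erase t T) hz.2 (mem_erase.2 ⟨hz.1, hzT⟩)
  have hDne : ∀ t ∈ T, (D t).Nonempty := fun t ht => by
    by_contra h
    rw [not_nonempty_iff_eq_empty] at h
    have := hDdef t ht
    rw [h, defi] at this
    simp at this
    omega
  have hcompl : defi K Tᶜ = (j : ℤ) + 1 := by
    have := defi_compl_cl (K := K) hTF
    rw [hTcl, hTc, L.hn] at this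
    rw [this]; push_cast; ring
  have hdis : Disjoint Tᶜ (cl K T) := by rw [hTcl]; exact disjoint_compl_left
  have hDbO : D b ⊆ O := by simp only [hD, hOtb]; exact erase_subset _ _
  -- all the `D t` cannot be equal
  have hS : ¬ ∀ t ∈ T, D t = D b := by
    intro hall
    set S := A ∪ O with hSdef
    have hSt : ∀ t ∈ T, (T.erase t) ∪ Ot t = S := by
      intro t ht
      have e1 : ∀ s ∈ T, (T.erase s) ∪ Ot s = T ∪ D s := fun s hs => by
        have : insert s ((Ot s).erase s) = Ot s := insert_erase (self_mem_orb _ _)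
        simp only [hD]
        ext z
        simp only [mem_union, mem_erase]
        constructor
        · rintro (⟨-, h⟩ | h)
          · exact Or.inl h
          · by_cases e : z = s
            · exact Or.inl (e ▸ hs)
            · exact Or.inr ⟨e, h⟩
        · rintro (h | ⟨-, h⟩)
          · by_cases e : z = s
            · exact Or.inr (e ▸ self_mem_orb _ _)
            · exact Or.inl ⟨e, h⟩
          · exact Or.inr h
      rw [e1 t ht, hall t ht, ← e1 b (mem_insert_self _ _), hTerase, hOtb]
    have hle : ∀ t ∈ T, pst G (T.erase t) ≤ stabilizer G S := fun t ht h hh => by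
      rw [mem_stabilizer_iff, ← hSt t ht, smul_finset_union, smul_eq_self_of_fix (mem_pst.1 hh),
        (orb_inv (T.erase t) t).smul_eq hh]
    have hAle : pst G A ≤ stabilizer G S := hTerase ▸ hle b (mem_insert_self _ _)
    have hto : ∀ x ∈ S, ∃ h ∈ stabilizer G S, h • x = b := by
      intro x hx
      rcases mem_union.1 hx with hxA | hxO
      · have hxT : x ∈ T := mem_insert_of_mem hxA
        obtain ⟨y, hy⟩ := hDne x hxT
        have hyO : y ∈ O := hDbO (hall x hxT ▸ hy)
        rw [hD, mem_erase] at hy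
        obtain ⟨u, hu, e⟩ := mem_orb.1 hy.2
        obtain ⟨v, hv, e'⟩ := orb_trans hyO (self_mem_orb A b)
        exact ⟨v * u, mul_mem (hAle hv) (hle x hxT hu), by rw [mul_smul, e, e']⟩
      · obtain ⟨v, hv, e'⟩ := orb_trans hxO (self_mem_orb A b)
        exact ⟨v, hAle hv, e'⟩
    have htr : ∀ x ∈ S, ∀ y ∈ S, ∃ h ∈ stabilizer G S, h • x = y := fun x hx y hy => by
      obtain ⟨u, hu, e⟩ := hto x hx
      obtain ⟨v, hv, e'⟩ := hto y hy
      exact ⟨v⁻¹ * u, mul_mem (inv_mem hv) hu, by rw [mul_smul, e, ← e', inv_smul_smul]⟩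
    have hmov : ∃ a ∈ S, ¬ Fixes K a := by
      by_contra h
      push Not at h
      have : O ⊆ fixSet K := fun z hz => mem_fixSet.2 (h z (mem_union_right _ hz))
      have h' : d = -(O.card : ℤ) := defi_subset_fix this
      omega
    obtain ⟨h1, -⟩ := L.hsm G Ω K (stabilizer G S) S L.hpro ((le_pst hA).trans hAle)
      (fun h hh z hz => by
        rw [← mem_stabilizer_iff.1 hh]
        exact smul_mem_smul_finset hz) htr hmov
      (card_lt_univ_of_notMem (x := w) (by simp [hSdef, hwA, hwO]))
    have e : fixPart K S = S ∩ fixSet (Ω := Ω) K := by ext a; simp [mem_fixPart, mem_fixSet]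
    rw [e] at h1
    have h3 : defi K S = -(j : ℤ) + d := by
      rw [hSdef, defi_union (Finset.disjoint_left.2 fun z hz hzO => notMem_of_mem_orb hbA hzO hz),
        defi_subset_fix hA, hAc]
    have h4 : 1 ≤ defi K S := by rw [defi]; omega
    rcases hd with hd | hd
    · have := L.two; omega
    · omega
  have hset : ∀ g : G, g • A = A → g • O = orb G A (g • b) := fun g hg => by rw [hO, smul_orb, hg]
  by_cases hd1' : d = 1
  · have hd : d = 1 := hd1'
    -- a suborbit of deficit one
    have h2 := h2t hd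
    have hDb : ∀ z ∈ D b, ∀ y ∈ D b, ∃ h ∈ pst G T, h • z = y := by
      intro z hz y hy
      simp only [hD, hOtb, mem_erase] at hz hy
      obtain ⟨h, hh, hhb, e⟩ := h2 b (self_mem_orb _ _) z hz.2 y hy.2 hz.1 hy.1
      refine ⟨h, mem_pst.2 fun a ha => ?_, e⟩
      rcases mem_insert.1 ha with rfl | ha
      · exact hhb
      · exact mem_pst.1 hh a ha
    have hDtr : ∀ t ∈ T, ∀ z ∈ D t, ∀ y ∈ D t, ∃ h ∈ pst G T, h • z = y := by
      intro t ht z hz y hy
      obtain ⟨g, hg, rfl⟩ := L.transT hTF hTc (mem_insert_self b A) ht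
      rw [← hgD g hg b, ← inv_smul_mem_iff] at hz hy
      obtain ⟨h, hh, e⟩ := hDb _ hz _ hy
      have h' := conj_mem_pst (g := g) hh
      rw [hg] at h'
      exact ⟨_, h', by rw [mul_smul, mul_smul, e, smul_inv_smul]⟩
    have hDmeet : ∀ t ∈ T, ∀ s ∈ T, ∀ z ∈ D t, z ∈ D s → D t = D s := by
      intro t ht s hs z hzt hzs
      refine Subset.antisymm (fun y hy => ?_) fun y hy => ?_
      · obtain ⟨h, hh, e⟩ := hDtr t ht z hzt y hy
        exact e ▸ hDinv s hs h hh z hzs
      · obtain ⟨h, hh, e⟩ := hDtr s hs z hzs y hy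
        exact e ▸ hDinv t ht h hh z hzt
    set U := A.filter fun t => D t = D b with hU
    by_cases hUA : U = A
    · exact hS fun t ht => by
        rcases mem_insert.1 ht with rfl | ht
        · rfl
        · rw [← hUA] at ht; exact (mem_filter.1 ht).2
    by_cases hU0 : U = ∅
    · -- all parts are different
      have hinj : ∀ t ∈ T, ∀ s ∈ T, D t = D s → t = s := by
        intro t ht s hs e
        obtain ⟨g, hg, hgt⟩ := L.transT hTF hTc ht (mem_insert_self b A)
        have e2 : D b = D (g • s) := by rw [← hgt, ← hgD g hg t, ← hgD g hg s, e]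
        by_contra hne
        have hgs : g • s ∈ U := by
          refine mem_filter.2 ⟨?_, e2.symm⟩
          have : g • s ∈ T := by rw [← hg]; exact smul_mem_smul_finset hs
          exact (mem_insert.1 this).resolve_left fun e' => hne (smul_left_cancel g (hgt.trans e'.symm))
        rw [hU0] at hgs
        exact notMem_empty _ hgs
      have h1 := defi_mono L.hsm L.hpro hTF hTne (U := Tᶜ) (V := T.biUnion D)
        (fun h hh z hz => by
          obtain ⟨t, ht, hzt⟩ := mem_biUnion.1 hz
          exact mem_biUnion.2 ⟨t, ht, hDinv t ht h hh z hzt⟩)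
        (compl_inv hTinv) (fun z hz => by
          obtain ⟨t, ht, hzt⟩ := mem_biUnion.1 hz
          exact mem_compl.2 (Finset.disjoint_left.1 (hDT t ht) hzt)) hdis
      rw [defi_biUnion _ _ (fun t ht s hs hne => Finset.disjoint_left.2 fun z hzt hzs =>
          hne (hinj t ht s hs (hDmeet t ht s hs z hzt hzs))),
        sum_congr rfl hDdef, sum_const, hTc, hcompl, hd, nsmul_eq_mul] at h1
      push_cast at h1
      omega
    -- many orbits of deficit one
    have hUlt : U.card < j := hAc ▸ card_lt_card ⟨filter_subset _ _, fun h =>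
      hUA (Subset.antisymm (filter_subset _ _) h)⟩
    obtain ⟨t₁, ht₁, hne₁⟩ : ∃ t ∈ T, D t ≠ D b := by
      by_contra h
      push Not at h
      exact hS h
    have hex : ∀ V ∈ powersetCard U.card A, ∃ g : G, g • A = A ∧ g • U = V := fun V hV =>
      L.jt.map_sets hAc.le rfl (filter_subset _ _) (mem_powersetCard.1 hV).1 (mem_powersetCard.1 hV).2.symm
    choose! gV hgA hgU using hex
    set B := (powersetCard U.card A).image fun V => gV V • O with hB
    have hBcard : B.card = (powersetCard U.card A).card := by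
      refine card_image_of_injOn fun V hV W hW e => ?_
      have hV' : V ∈ powersetCard U.card A := hV
      have hW' : W ∈ powersetCard U.card A := hW
      replace e : gV V • O = gV W • O := e
      rw [hset _ (hgA V hV'), hset _ (hgA W hW')] at e
      obtain ⟨h, hh, e'⟩ := mem_orb.1 (show gV W • b ∈ orb G A (gV V • b) by
        rw [e]; exact self_mem_orb _ _)
      set v := (gV W)⁻¹ * (h * gV V) with hv
      have hvb : v • b = b := by rw [hv, mul_smul, mul_smul, e', inv_smul_smul]
      have hvA : v • A = A := by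
        rw [hv, mul_smul, mul_smul, hgA V hV', smul_eq_self_of_fix (mem_pst.1 hh)]
        exact inv_smul_eq_iff.2 (hgA W hW').symm
      have hvT : v • T = T := by rw [hT, smul_finset_insert, hvA, hvb]
      have hvU : v • U = U := smul_eq_of_forall fun t ht => by
        obtain ⟨htA, htD⟩ := mem_filter.1 ht
        refine mem_filter.2 ⟨by rw [← hvA]; exact smul_mem_smul_finset htA, ?_⟩
        rw [← hgD v hvT, htD, hgD v hvT, hvb]
      rw [hv, mul_smul, mul_smul, hgU V hV', inv_smul_eq_iff, hgU W hW',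
        smul_eq_self_of_fix (fun z hz => mem_pst.1 hh z ((mem_powersetCard.1 hV').1 hz))] at hvU
      exact hvU
    have hBd : ∀ X ∈ B.erase O, defi K X = 1 ∧ InvU (pst G T) X ∧ X ⊆ Tᶜ ∧ Disjoint X O ∧
        ∃ x, X = orb G A x := by
      intro X hX
      obtain ⟨hXO, hXB⟩ := mem_erase.1 hX
      obtain ⟨V, hV, rfl⟩ := mem_image.1 hXB
      have hXe := hset _ (hgA V hV)
      have hdj : Disjoint (gV V • O) O := Finset.disjoint_left.2 fun z hz hzO => hXO (by
        rw [hXe] at hz ⊢
        rw [← orb_eq hz, orb_eq hzO])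
      refine ⟨?_, ?_, ?_, hdj, _, hXe⟩
      · rw [← hd, hdd]; exact defi_smul L.hpro (orb_inv A b) hA (by rw [hgA V hV]; exact hA)
      · rw [hXe]; exact fun h hh => orb_inv A _ h (pst_mono (subset_insert b A) hh)
      · intro z hz
        rw [mem_compl, hT, mem_insert, not_or]
        refine ⟨fun e => Finset.disjoint_left.1 hdj hz (e ▸ self_mem_orb A b), fun hzA => ?_⟩
        rw [← inv_smul_mem_iff] at hz
        have hzA' : (gV V)⁻¹ • z ∈ A := by
          rw [inv_smul_mem_iff, hgA V hV]; exact hzA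
        exact notMem_of_mem_orb hbA hz hzA'
    have hXD : ∀ X ∈ B.erase O, ∀ t ∈ T, Disjoint X (D t) := by
      intro X hX t ht
      obtain ⟨hX1, hXinv, hXT, -, x, -⟩ := hBd X hX
      refine Finset.disjoint_left.2 fun z hzX hzD => ?_
      have hsub : D t ⊆ X := fun y hy => by
        obtain ⟨h, hh, e⟩ := hDtr t ht z hzD y hy
        exact e ▸ hXinv h hh z hzX
      have := defi_mono L.hsm L.hpro hTF hTne (hDinv t ht) hXinv hsub
        (hdis.mono_left hXT)
      rw [hDdef t ht, hX1, hd] at this
      omega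
    have hBdisj : ((B.erase O : Finset (Finset Ω)) : Set (Finset Ω)).PairwiseDisjoint id := by
      intro X hX Y hY hne
      obtain ⟨-, -, -, -, x, rfl⟩ := hBd X hX
      obtain ⟨-, -, -, -, y, rfl⟩ := hBd Y hY
      exact Finset.disjoint_left.2 fun z hzX hzY => hne ((orb_eq hzX).symm.trans (orb_eq hzY))
    have h1 := defi_mono L.hsm L.hpro hTF hTne (U := Tᶜ)
      (V := ((B.erase O).biUnion id) ∪ (D b ∪ D t₁))
      (fun h hh z hz => by
        rcases mem_union.1 hz with hz | hz
        · obtain ⟨X, hX, hzX⟩ := mem_biUnion.1 hz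
          exact mem_union_left _ (mem_biUnion.2 ⟨X, hX, (hBd X hX).2.1 h hh z hzX⟩)
        · rcases mem_union.1 hz with hz | hz
          · exact mem_union_right _ (mem_union_left _ (hDinv b (mem_insert_self _ _) h hh z hz))
          · exact mem_union_right _ (mem_union_right _ (hDinv t₁ ht₁ h hh z hz)))
      (compl_inv hTinv) (union_subset (biUnion_subset.2 fun X hX => (hBd X hX).2.2.1)
        (union_subset (fun z hz => mem_compl.2 (Finset.disjoint_left.1 (hDT b (mem_insert_self _ _)) hz))
          fun z hz => mem_compl.2 (Finset.disjoint_left.1 (hDT t₁ ht₁) hz))) hdis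
    rw [defi_union (by
        rw [disjoint_biUnion_left]
        exact fun X hX => disjoint_union_right.2 ⟨hXD X hX b (mem_insert_self _ _), hXD X hX t₁ ht₁⟩),
      defi_union (Finset.disjoint_left.2 fun z hzb hz₁ => hne₁ (hDmeet t₁ ht₁ b (mem_insert_self _ _) z hz₁ hzb)),
      defi_biUnion _ _ hBdisj, sum_congr rfl (fun X hX => show defi K (id X) = 1 from (hBd X hX).1),
      sum_const,
      hDdef b (mem_insert_self _ _), hDdef t₁ ht₁, hd, hcompl, nsmul_one] at h1
    have h3 : B.card ≤ (B.erase O).card + 1 := by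
      by_cases h : O ∈ B
      · rw [card_erase_add_one h]
      · rw [erase_eq_of_notMem h]; omega
    have h4 := le_choose (n := j) (card_pos.2 (nonempty_iff_ne_empty.2 hU0)) hUlt
    rw [hBcard, card_powersetCard, hAc] at h3
    omega
  · -- deficit at least two: few images, parts are shared by all or exclusive
    have hd2 : 2 ≤ d := by omega
    replace hd : d + 1 < (j : ℤ) := hd.resolve_left hd1'
    have htwo : ∀ g g' : G, g • A = A → g' • A = A → g • O ≠ O → g' • O ≠ O → g • O = g' • O := by
      intro g g' hg hg' hne hne'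
      by_contra hne3
      have hsub : ({O, g • O, g' • O} : Finset (Finset Ω)) ⊆ orbs G A Aᶜ := by
        simp only [insert_subset_iff, singleton_subset_iff]
        refine ⟨mem_image_of_mem _ (mem_compl.2 hbA), ?_, ?_⟩
        · rw [hset g hg]
          refine mem_image_of_mem _ (mem_compl.2 fun h => hbA ?_)
          rwa [← hg, smul_mem_smul_finset_iff] at h
        · rw [hset g' hg']
          refine mem_image_of_mem _ (mem_compl.2 fun h => hbA ?_)
          rwa [← hg', smul_mem_smul_finset_iff] at h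
      have h5 : ∑ X ∈ ({O, g • O, g' • O} : Finset (Finset Ω)), defi K X ≤ defi K Aᶜ := by
        rw [defi_eq_sum (compl_inv hAinv)]
        refine sum_le_sum_of_subset_of_nonneg hsub fun X hX _ => ?_
        obtain ⟨x, hx, rfl⟩ := mem_image.1 hX
        have := (defi_orb_pos L.hsm L.hpro hA hAne (z := x) (by rw [hclA]; exact mem_compl.1 hx)).1
        omega
      rw [sum_insert (by simp [Ne.symm hne, Ne.symm hne']), sum_pair hne3,
        defi_smul L.hpro (orb_inv A b) hA (by rw [hg]; exact hA),
        defi_smul L.hpro (orb_inv A b) hA (by rw [hg']; exact hA), L.defi_compl hA hAc, ← hdd] at h5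
      omega
    have hfix : ∀ U V : Finset Ω, U ⊆ A → V ⊆ A → U.card = V.card →
        ∃ g : G, g • A = A ∧ g • O = O ∧ g • U = V := by
      intro U V hU hV hUV
      obtain ⟨g, hgA, hgU⟩ := L.jt.map_sets hAc.le rfl hU hV hUV
      by_cases hgO : g • O = O
      · exact ⟨g, hgA, hgO, hgU⟩
      -- an element preserving `V` and moving `O`
      by_cases hsw : ∃ s : G, s • A = A ∧ s • O ≠ O ∧ s • V = V
      · obtain ⟨s, hsA, hsO, hsV⟩ := hsw
        refine ⟨s⁻¹ * g, ?_, ?_, ?_⟩
        · rw [mul_smul, hgA]; exact inv_smul_eq_iff.2 hsA.symm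
        · rw [mul_smul, inv_smul_eq_iff]; exact htwo g s hgA hsA hgO hsO
        · rw [mul_smul, hgU]; exact inv_smul_eq_iff.2 hsV.symm
      exfalso
      push Not at hsw
      -- lifts of permutations fixing `O` form everything
      let good : Equiv.Perm ↥A → Prop := fun σ => ∀ u : G, u • A = A →
        (∀ x : ↥A, u • (x : Ω) = (σ x : Ω)) → u • O = O
      have lift : ∀ σ : Equiv.Perm ↥A, ∃ u : G, u • A = A ∧ ∀ x : ↥A, u • (x : Ω) = (σ x : Ω) := by
        intro σ
        obtain ⟨u, hu⟩ := L.jt A (fun x => (σ x : Ω)) hAc.le (Subtype.val_injective.comp σ.injective)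
        exact ⟨u, smul_eq_of_forall fun z hz => by rw [hu ⟨z, hz⟩]; exact (σ _).2, hu⟩
      have g1 : good 1 := fun u _ hu =>
        (orb_inv A b).smul_eq (mem_pst.2 fun a ha => by rw [hu ⟨a, ha⟩]; rfl)
      have gmul : ∀ σ τ, good σ → good τ → good (σ * τ) := by
        intro σ τ hσ hτ u huA hu
        obtain ⟨p, hpA, hp⟩ := lift σ
        obtain ⟨q, hqA, hq⟩ := lift τ
        have h' : (q⁻¹ * (p⁻¹ * u)) • O = O := (orb_inv A b).smul_eq (mem_pst.2 fun a ha => by
          rw [mul_smul, mul_smul, hu ⟨a, ha⟩, inv_smul_eq_iff, inv_smul_eq_iff, hq ⟨a, ha⟩, hp]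
          rfl)
        rw [mul_smul, mul_smul, inv_smul_eq_iff, hτ q hqA hq, inv_smul_eq_iff, hσ p hpA hp] at h'
        exact h'
      -- one transposition inside `V` or inside `A \ V`
      obtain ⟨x, y, hxy, hpair⟩ : ∃ x y : ↥A, x ≠ y ∧ (((x : Ω) ∈ V) ↔ ((y : Ω) ∈ V)) := by
        have h3 : 2 < Fintype.card ↥A := by rw [Fintype.card_coe, hAc]; omega
        obtain ⟨x, y, z, hxy, hxz, hyz⟩ := Fintype.two_lt_card_iff.1 h3
        by_cases hx : (x : Ω) ∈ V <;> by_cases hy : (y : Ω) ∈ V
        · exact ⟨x, y, hxy, by tauto⟩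
        · by_cases hz : (z : Ω) ∈ V
          · exact ⟨x, z, hxz, by tauto⟩
          · exact ⟨y, z, hyz, by tauto⟩
        · by_cases hz : (z : Ω) ∈ V
          · exact ⟨y, z, hyz, by tauto⟩
          · exact ⟨x, z, hxz, by tauto⟩
        · exact ⟨x, y, hxy, by tauto⟩
      have gxy : good (Equiv.swap x y) := fun u huA hu => by
        by_contra hne
        refine hsw u huA hne (smul_eq_of_forall fun z hz => ?_)
        rw [hu ⟨z, hV hz⟩]
        by_cases e1 : (⟨z, hV hz⟩ : ↥A) = x
        · rw [e1, Equiv.swap_apply_left]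
          exact hpair.1 (e1 ▸ hz)
        by_cases e2 : (⟨z, hV hz⟩ : ↥A) = y
        · rw [e2, Equiv.swap_apply_right]
          exact hpair.2 (e2 ▸ hz)
        rw [Equiv.swap_apply_of_ne_of_ne e1 e2]
        exact hz
      have gconj : ∀ σ τ, good τ → good (σ * τ * σ⁻¹) := by
        intro σ τ hτ u huA hu
        obtain ⟨p, hpA, hp⟩ := lift σ
        obtain ⟨q, hqA, hq⟩ := lift τ
        have hpi : p⁻¹ • A = A := inv_smul_eq_iff.2 hpA.symm
        have hqO := hτ q hqA hq
        have hqp : q • p⁻¹ • O = p⁻¹ • O := by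
          by_cases hpO : p⁻¹ • O = O
          · rw [hpO, hqO]
          · rw [← mul_smul]
            refine htwo (q * p⁻¹) p⁻¹ (by rw [mul_smul, hpi, hqA]) hpi (fun e => hpO ?_) hpO
            rw [mul_smul] at e
            exact smul_left_cancel q (e.trans hqO.symm)
        have h' : ((p * q * p⁻¹)⁻¹ * u) • O = O := (orb_inv A b).smul_eq (mem_pst.2 fun a ha => by
          rw [mul_smul, hu ⟨a, ha⟩, inv_smul_eq_iff, mul_smul, mul_smul]
          have e : p⁻¹ • a = ((σ⁻¹ ⟨a, ha⟩ : ↥A) : Ω) := by
            rw [inv_smul_eq_iff, hp]; simp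
          rw [e, hq, hp]
          simp)
        rw [mul_smul, inv_smul_eq_iff, mul_smul, mul_smul, hqp, smul_inv_smul] at h'
        exact h'
      have gswap : ∀ x' y' : ↥A, x' ≠ y' → good (Equiv.swap x' y') := by
        intro x' y' hne
        set σ : Equiv.Perm ↥A := Equiv.swap (Equiv.swap x x' y) y' * Equiv.swap x x' with hσ
        have h1 : σ x = x' := by
          rw [hσ, Equiv.Perm.mul_apply, Equiv.swap_apply_left]
          refine Equiv.swap_apply_of_ne_of_ne (fun e => hxy ?_) hne
          have := congrArg (Equiv.swap x x') e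
          rwa [Equiv.swap_apply_self, Equiv.swap_apply_right] at this
        have h2 : σ y = y' := by rw [hσ, Equiv.Perm.mul_apply, Equiv.swap_apply_left]
        rw [← h1, ← h2, Equiv.swap_apply_apply]
        exact gconj σ _ gxy
      have gall : ∀ σ, good σ := fun σ => by
        induction σ using Equiv.Perm.swap_induction_on with
        | one => exact g1
        | swap_mul f x' y' hne hf => exact gmul _ _ (gswap x' y' hne) hf
      have hmemA : ∀ z, z ∈ A ↔ g • z ∈ A := fun z => by
        conv_lhs => rw [← smul_mem_smul_finset_iff g, hgA]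
      exact hgO (gall (Equiv.subtypeEquiv (MulAction.toPerm g) hmemA) g hgA fun _ => rfl)
    set M : Ω → Finset Ω := fun z => T.filter fun t => z ∈ D t with hM
    have hMinv : ∀ h ∈ pst G T, ∀ z, M (h • z) = M z := by
      intro h hh z
      refine filter_congr fun t ht => ⟨fun h' => ?_, fun h' => hDinv t ht h hh z h'⟩
      have := hDinv t ht h⁻¹ (inv_mem hh) _ h'
      rwa [inv_smul_smul] at this
    have hbT : b ∈ T := mem_insert_self _ _
    by_cases hall : ∀ z ∈ D b, M z = T
    · refine hS fun t ht => ?_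
      obtain ⟨g, hg, hgb⟩ := L.transT hTF hTc hbT ht
      refine (eq_of_subset_of_card_le (fun z hz => ?_) (le_of_eq ?_)).symm
      · have := hall z hz
        rw [← this] at ht
        exact (mem_filter.1 ht).2
      · rw [← hgb, ← hgD g hg b, card_smul_finset]
    push Not at hall
    obtain ⟨z₀, hz₀, hMz⟩ := hall
    by_cases hU0 : M z₀ = {b}
    · -- exclusive parts
      have hex : ∀ t ∈ A, ∃ z, z ∈ D t ∧ M z = {t} := by
        intro t ht
        obtain ⟨g, hg, rfl⟩ := L.transT hTF hTc hbT (mem_insert_of_mem ht)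
        refine ⟨g • z₀, by rw [← hgD g hg b]; exact smul_mem_smul_finset hz₀, ?_⟩
        rw [← smul_finset_singleton, ← hU0]
        ext s
        rw [← inv_smul_mem_iff, hM, mem_filter, mem_filter]
        have hgi : g⁻¹ • T = T := inv_smul_eq_iff.2 hg.symm
        rw [← hgD g⁻¹ hgi s, mem_inv_smul_finset_iff]
        refine and_congr_left fun _ => ?_
        rw [inv_smul_mem_iff, hg]
      choose! zt hzt hMzt using hex
      have hsep : ∀ t ∈ A, ∀ s ∈ T, s ≠ t → Disjoint (orb G T (zt t)) (D s) := by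
        intro t ht s hs hne
        refine Finset.disjoint_left.2 fun z hz hzs => hne ?_
        obtain ⟨h, hh, rfl⟩ := mem_orb.1 hz
        have : s ∈ M (h • zt t) := mem_filter.2 ⟨hs, hzs⟩
        rw [hMinv h hh, hMzt t ht, mem_singleton] at this
        exact this
      have hnT : ∀ t ∈ A, zt t ∉ T := fun t ht =>
        Finset.disjoint_left.1 (hDT t (mem_insert_of_mem ht)) (hzt t ht)
      have h1 := defi_mono L.hsm L.hpro hTF hTne (U := Tᶜ)
        (V := D b ∪ A.biUnion fun t => orb G T (zt t))
        (fun h hh z hz => by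
          rcases mem_union.1 hz with hz | hz
          · exact mem_union_left _ (hDinv b hbT h hh z hz)
          · obtain ⟨t, ht, hzt'⟩ := mem_biUnion.1 hz
            exact mem_union_right _ (mem_biUnion.2 ⟨t, ht, orb_inv T _ h hh z hzt'⟩))
        (compl_inv hTinv) (union_subset
          (fun z hz => mem_compl.2 (Finset.disjoint_left.1 (hDT b hbT) hz))
          (biUnion_subset.2 fun t ht z hz => mem_compl.2 (notMem_of_mem_orb (hnT t ht) hz))) hdis
      rw [defi_union (by
          rw [disjoint_biUnion_right]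
          exact fun t ht => (hsep t ht b hbT (fun e => hbA (e ▸ ht))).symm),
        defi_biUnion _ _ (fun t ht s hs hne => Finset.disjoint_left.2 fun z hzt' hzs' => by
          have h := hsep t ht s (mem_insert_of_mem hs) (Ne.symm hne)
          exact Finset.disjoint_left.1 h hzt'
            (orb_subset (hDinv s (mem_insert_of_mem hs)) (hzt s hs) hzs')),
        hDdef b hbT, hcompl] at h1
      have h2 : ∑ _t ∈ A, (1 : ℤ) ≤ ∑ t ∈ A, defi K (orb G T (zt t)) := sum_le_sum fun t ht =>
        (defi_orb_pos L.hsm L.hpro hTF hTne (z := zt t) (by rw [hTcl]; exact hnT t ht)).1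
      rw [sum_const, hAc, nsmul_one] at h2
      omega
    -- many parts inside `D b`
    have hbM : b ∈ M z₀ := mem_filter.2 ⟨hbT, hz₀⟩
    set U := (M z₀).erase b with hU
    have hUA : U ⊆ A := fun t ht => by
      obtain ⟨hne, htM⟩ := mem_erase.1 ht
      exact (mem_insert.1 (mem_filter.1 htM).1).resolve_left hne
    have hUlt : U.card < j := by
      refine hAc ▸ card_lt_card ⟨hUA, fun h => hMz ?_⟩
      rw [← insert_erase hbM, ← hU, Subset.antisymm hUA h]
    have hUne : U.Nonempty := by
      rw [nonempty_iff_ne_empty]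
      intro e
      exact hU0 (by rw [← insert_erase hbM, ← hU, e]; rfl)
    have hex : ∀ V ∈ powersetCard U.card A, ∃ z, z ∈ D b ∧ M z = insert b V := by
      intro V hV
      obtain ⟨g, hgA, hgO, hgU⟩ := hfix U V hUA (mem_powersetCard.1 hV).1 (mem_powersetCard.1 hV).2.symm
      obtain ⟨h, hh, e⟩ := mem_orb.1 (show b ∈ orb G A (g • b) by
        rw [← hset g hgA, hgO]; exact self_mem_orb _ _)
      set v := h * g with hv
      have hvA : v • A = A := by rw [hv, mul_smul, hgA, smul_eq_self_of_fix (mem_pst.1 hh)]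
      have hvb : v • b = b := by rw [hv, mul_smul, e]
      have hvT : v • T = T := by rw [hT, smul_finset_insert, hvA, hvb]
      have hvU : v • U = V := by
        rw [hv, mul_smul, hgU]
        exact smul_eq_self_of_fix fun z hz => mem_pst.1 hh z ((mem_powersetCard.1 hV).1 hz)
      refine ⟨v • z₀, ?_, ?_⟩
      · rw [← hvb, ← hgD v hvT b]; exact smul_mem_smul_finset hz₀
      · have e1 : M (v • z₀) = v • M z₀ := by
          ext s
          rw [← inv_smul_mem_iff, hM, mem_filter, mem_filter]
          have hvi : v⁻¹ • T = T := inv_smul_eq_iff.2 hvT.symm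
          rw [← hgD v⁻¹ hvi s, mem_inv_smul_finset_iff]
          refine and_congr_left fun _ => ?_
          rw [inv_smul_mem_iff, hvT]
        rw [e1, ← insert_erase hbM, smul_finset_insert, hvb, ← hU, hvU]
    choose zV hzV hMV using hex
    have hcard : (powersetCard U.card A).card ≤ (orbs G T (D b)).card := by
      refine card_le_card_of_injOn (fun V => if hV : V ∈ powersetCard U.card A then orb G T (zV V hV) else ∅)
        (fun V hV => by simp only; rw [dif_pos (Finset.mem_coe.1 hV)]; exact mem_image_of_mem _ (hzV V _)) ?_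
      intro V hV W hW e
      rw [Finset.mem_coe] at hV hW
      simp only [dif_pos hV, dif_pos hW] at e
      obtain ⟨h, hh, e'⟩ := mem_orb.1 (show zV W hW ∈ orb G T (zV V hV) by rw [e]; exact self_mem_orb _ _)
      have := congrArg (fun s => Finset.erase s b) (show insert b V = insert b W by
        rw [← hMV V hV, ← hMV W hW, ← e', hMinv h hh])
      simp only [erase_insert fun hb => hbA ((mem_powersetCard.1 hV).1 hb),
        erase_insert fun hb => hbA ((mem_powersetCard.1 hW).1 hb)] at this
      exact this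
    have h1 := card_le_defi L.hsm L.hpro hTF hTne (hDinv b hbT)
      (by rw [hTcl]; exact hDT b hbT)
    rw [hDdef b hbT] at h1
    rw [card_powersetCard, hAc] at hcard
    have h4 := le_choose (n := j) (card_pos.2 hUne) hUlt
    omega

end CfsgLib.ProFix
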