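import Cfsg.Agent.Lib.Perm.ProFix.Final

/-!
# A nontrivial pronormal subgroup fixes fewer than half of the points
-/

set_option autoImplicit false

open scoped Pointwise
open Finset MulAction

namespace CfsgLib.ProFix

theorem isPro_subgroupOf {G : Type} [Group G] {K H : Subgroup G} (hpro : IsPro K) (hKH : K ≤ H) :
    IsPro (K.subgroupOf H) := by
  intro h
  obtain ⟨w, hw, e⟩ := hpro (h : G)
  have hcj : ∀ g : H, (cj g (K.subgroupOf H)).map H.subtype = cj (g : G) K := by
    intro g
    ext x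
    constructor
    · rintro ⟨y, hy, rfl⟩
      rw [SetLike.mem_coe, mem_cj, Subgroup.mem_subgroupOf] at hy
      exact mem_cj.2 (by simpa using hy)
    · intro hx
      rw [mem_cj] at hx
      have hxH : x ∈ H := by
        have := mul_mem (mul_mem g.2 (hKH hx)) (inv_mem g.2)
        simpa [mul_assoc] using this
      exact ⟨⟨x, hxH⟩, mem_cj.2 (by rw [Subgroup.mem_subgroupOf]; simpa using hx), rfl⟩
  have hK : (K.subgroupOf H).map H.subtype = K := Subgroup.map_subgroupOf_eq_of_le hKH
  have hle : (K.subgroupOf H ⊔ cj h (K.subgroupOf H)).map H.subtype = K ⊔ cj (h : G) K := by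
    rw [Subgroup.map_sup, hK, hcj]
  rw [← hle] at hw
  obtain ⟨v, hv, rfl⟩ := hw
  refine ⟨v, hv, Subgroup.map_injective H.subtype_injective ?_⟩
  rw [hcj, hcj]
  exact e

theorem isPro_map {G P : Type} [Group G] [Group P] {K : Subgroup G} (hpro : IsPro K) (φ : G →* P)
    (hφ : Function.Surjective φ) : IsPro (K.map φ) := by
  intro q
  obtain ⟨g, rfl⟩ := hφ q
  obtain ⟨w, hw, e⟩ := hpro g
  have hcj : ∀ u : G, cj (φ u) (K.map φ) = (cj u K).map φ := fun u => by
    simp only [Subgroup.map_map]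
    congr 1
    ext x
    simp
  refine ⟨φ w, ?_, ?_⟩
  · rw [hcj, ← Subgroup.map_sup]
    exact Subgroup.mem_map_of_mem φ hw
  · rw [hcj, hcj, e]

/-- The induction. -/
theorem small_all : ∀ n : ℕ, Small n := by
  intro n
  induction n with
  | zero => intro G α _ _ K H s _ _ _ _ _ h; omega
  | succ n ih =>
    intro G α _ _ K H s hpro hKH hinv htr hmov hlt
    classical
    rcases Nat.lt_or_ge s.card n with h | h
    · exact ih G α K H s hpro hKH hinv htr hmov h
    have hn : s.card = n := by omega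
    let act : MulAction H ↥s :=
      { smul := fun h a => ⟨(h : G) • (a : α), hinv h h.2 a a.2⟩
        one_smul := fun a => Subtype.ext (one_smul G (a : α))
        mul_smul := fun g h a => Subtype.ext (mul_smul (g : G) (h : G) (a : α)) }
    set φ := MulAction.toPermHom H ↥s
    set Gb := φ.range
    set ψ : H →* Gb := φ.rangeRestrict
    set Kb : Subgroup Gb := (K.subgroupOf H).map ψ
    have hproB : IsPro Kb := isPro_map (isPro_subgroupOf hpro hKH) ψ φ.rangeRestrict_surjective
    have hact : ∀ (h : H) (a : ↥s), ((ψ h • a : ↥s) : α) = (h : G) • (a : α) := fun h a => rfl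
    have hfix : ∀ a : ↥s, Fixes Kb a ↔ Fixes K (a : α) := by
      intro a
      constructor
      · intro h k hk
        have := congrArg Subtype.val (h (ψ ⟨k, hKH hk⟩)
          (Subgroup.mem_map_of_mem ψ (Subgroup.mem_subgroupOf.2 hk)))
        rwa [hact] at this
      · rintro h _ ⟨k, hk, rfl⟩
        exact Subtype.ext (by rw [hact]; exact h k (Subgroup.mem_subgroupOf.1 hk))
    have htrB : IsPretransitive Gb ↥s := ⟨fun a b => by
      obtain ⟨h, hh, e⟩ := htr a a.2 b b.2
      exact ⟨ψ ⟨h, hh⟩, Subtype.ext e⟩⟩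
    have hmovB : ∃ a : ↥s, ¬ Fixes Kb a := by
      obtain ⟨a, ha, ha'⟩ := hmov
      exact ⟨⟨a, ha⟩, fun h => ha' ((hfix ⟨a, ha⟩).1 h)⟩
    have hsm : Small (Fintype.card ↥s) := by rw [Fintype.card_coe, hn]; exact ih
    have hcard : (fixSet (Ω := ↥s) Kb).card = (fixPart K s).card := by
      rw [← card_map (Function.Embedding.subtype _)]
      congr 1
      ext a
      simp only [mem_map, mem_fixSet, mem_fixPart, Function.Embedding.subtype_apply]
      exact ⟨fun ⟨b, hb, e⟩ => e ▸ ⟨b.2, (hfix b).1 hb⟩, fun ⟨h1, h2⟩ => ⟨⟨a, h1⟩, (hfix _).2 h2, rfl⟩⟩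
    have key : 2 * (fixPart K s).card + 1 ≤ s.card := by
      by_contra hc
      exact (eq_double hsm hproB hmovB (by rw [Fintype.card_coe, hcard]; omega)).absurd'
    refine ⟨key, fun he a ha b hb c hc hba hca => ?_⟩
    obtain ⟨⟨g, h, rfl⟩, h1, h2⟩ := extremal hsm hproB hmovB (by rw [Fintype.card_coe, hcard, he])
      (⟨a, ha⟩ : ↥s) ⟨b, hb⟩ ⟨c, hc⟩ (fun e => hba (congrArg Subtype.val e))
      (fun e => hca (congrArg Subtype.val e))
    exact ⟨h, h.2, congrArg Subtype.val h1, congrArg Subtype.val h2⟩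

/-- A pronormal subgroup moving a point of a transitive set fixes fewer than half of it. -/
theorem fixed_lt_half {G Ω : Type} [Group G] [MulAction G Ω] [Fintype Ω] [IsPretransitive G Ω]
    {K : Subgroup G} (hpro : IsPro K) (hmov : ∃ a : Ω, ¬ Fixes K a) :
    2 * (fixSet (Ω := Ω) K).card + 1 ≤ Fintype.card Ω := by
  classical
  obtain ⟨a, ha⟩ := hmov
  have := (small_all (Fintype.card Ω + 1) G Ω K ⊤ univ hpro le_top (fun _ _ _ _ => mem_univ _)
    (fun x _ y _ => by
      obtain ⟨g, hg⟩ := exists_smul_eq G x y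
      exact ⟨g, Subgroup.mem_top g, hg⟩) ⟨a, mem_univ a, ha⟩ (by simp)).1
  simpa [fixSet] using this

end CfsgLib.ProFix
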